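import Cfsg.Agent.H955.QClass
import Cfsg.Agent.GenOrth.Emb
import Cfsg.Agent.LieClassical.SmallIso
import Cfsg.Agent.FastGrp
import Cfsg.Agent.Prune
set_option linter.all false

section
prune_inst 0x7f00000000000000000000000000000000000000000000000000000000000000000000000000000000000000000000000000000000000000000000000000000000000000000000000000000000000000003fffffffffffffffffffffffffffbeffbdffffffff

-- part: H353/TwoOrthTrans
section
set_option linter.all false
open scoped Cfsg.Agent.FastGrp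

-- part: H353/TwoOrthRoot
section
/-!
# HUB H1, orthogonal groups: long root elements (helper353)

`TS Q x y` : `x, y` span a totally singular plane (line of the polar space).
`rt h : V ≃ₗ V` : `v ↦ v + b(x, v) y - b(y, v) x`.
-/

set_option autoImplicit false

namespace Cfsg.Agent.H353.TwoOrth

open QuadraticMap Cfsg.Agent.LieClassical.OrthCore Cfsg.Agent.LieClassical.OrthTrans

variable {F V : Type*} [Field F] [AddCommGroup V] [Module F V] {Q : QuadraticForm F V}

/-- totally singular pair of independent vectors -/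
structure TS (Q : QuadraticForm F V) (x y : V) : Prop where
  left : Q x = 0
  right : Q y = 0
  pol : polar Q x y = 0
  ind : ∀ a b : F, a • x + b • y = 0 → a = 0 ∧ b = 0

namespace TS

variable {x y : V}

theorem pol' (h : TS Q x y) : polar Q y x = 0 := by rw [polar_comm]; exact h.pol

theorem symm (h : TS Q x y) : TS Q y x :=
  ⟨h.right, h.left, h.pol', fun a b hab => by
    have := h.ind b a (by rw [← hab]; abel)
    exact ⟨this.2, this.1⟩⟩

theorem left_ne (h : TS Q x y) : x ≠ 0 := by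
  intro hx
  have := h.ind 1 0 (by rw [hx]; simp)
  exact one_ne_zero this.1

theorem right_ne (h : TS Q x y) : y ≠ 0 := h.symm.left_ne

theorem not_smul (h : TS Q x y) (c : F) : y ≠ c • x := by
  intro hc
  have := h.ind c (-1) (by rw [hc]; module)
  exact one_ne_zero (neg_eq_zero.1 this.2)

theorem map (h : TS Q x y) {g : V ≃ₗ[F] V} (hg : g ∈ O Q) : TS Q (g x) (g y) :=
  ⟨by rw [mem_O.1 hg]; exact h.left, by rw [mem_O.1 hg]; exact h.right, by rw [polar_map hg]; exact h.pol,
    fun a b hab => h.ind a b (by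
      rw [← map_smul, ← map_smul, ← map_add] at hab
      exact (LinearEquiv.map_eq_zero_iff g).1 hab)⟩

theorem polar_left (h : TS Q x y) : polar Q x x = 0 := polar_self_of_sing h.left

theorem polar_right (h : TS Q x y) : polar Q y y = 0 := polar_self_of_sing h.right

/-- change of basis -/
theorem comb (h : TS Q x y) {a b c d : F} (hd : a * d - b * c ≠ 0) : TS Q (a • x + b • y) (c • x + d • y) := by
  refine ⟨?_, ?_, ?_, ?_⟩
  · rw [Q_add, QuadraticMap.map_smul, QuadraticMap.map_smul, h.left, h.right, polar_smul_left, polar_smul_right,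
      h.pol]
    simp
  · rw [Q_add, QuadraticMap.map_smul, QuadraticMap.map_smul, h.left, h.right, polar_smul_left, polar_smul_right,
      h.pol]
    simp
  · simp only [polar_add_left, polar_add_right, polar_smul_left, polar_smul_right, h.pol, h.pol', h.polar_left,
      h.polar_right, smul_eq_mul]
    ring
  · intro s t hst
    have h1 := h.ind (s * a + t * c) (s * b + t * d) (by rw [← hst]; module)
    constructor
    · have : s * (a * d - b * c) = 0 := by linear_combination d * h1.1 - c * h1.2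
      exact (mul_eq_zero.1 this).resolve_right hd
    · have : t * (a * d - b * c) = 0 := by linear_combination (-b) * h1.1 + a * h1.2
      exact (mul_eq_zero.1 this).resolve_right hd

/-- separating vectors -/
theorem exists_sep (hQ : Nondeg Q) (h : TS Q x y) (a b : F) : ∃ v, polar Q x v = a ∧ polar Q y v = b := by
  obtain ⟨v, hv1, hv2⟩ := Cfsg.Agent.LieClassical.OrthTrans.exists_sep hQ (x := y) (z := x) h.not_smul
  obtain ⟨w, hw1, hw2⟩ := Cfsg.Agent.LieClassical.OrthTrans.exists_sep hQ (x := x) (z := y) h.symm.not_smul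
  refine ⟨b • v + a • w, ?_, ?_⟩
  · rw [polar_add_right, polar_smul_right, polar_smul_right, hv1, hw2]; simp
  · rw [polar_add_right, polar_smul_right, polar_smul_right, hv2, hw1]; simp

end TS

/-- the long root map (as a function) -/
def Rf (Q : QuadraticForm F V) (x y v : V) : V := v + polar Q x v • y - polar Q y v • x

theorem Rf_comb (x y v : V) (a b c d : F) : Rf Q (a • x + b • y) (c • x + d • y) v =
    v + (a * d - b * c) • (polar Q x v • y - polar Q y v • x) := by
  simp only [Rf, polar_add_left, polar_smul_left, smul_eq_mul]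
  module

/-- The line is determined by the root element. -/
theorem Rf_inj (hQ : Nondeg Q) {x y x' y' : V} (h : TS Q x y) (h' : TS Q x' y')
    (he : ∀ v, Rf Q x y v = Rf Q x' y' v) :
    ∃ a b c d : F, x' = a • x + b • y ∧ y' = c • x + d • y ∧ a * d - b * c = 1 := by
  have key : ∀ v, polar Q x' v • y' - polar Q y' v • x' = polar Q x v • y - polar Q y v • x := by
    intro v
    have := he v
    rw [Rf, Rf, add_sub_assoc, add_sub_assoc] at this
    exact (add_left_cancel this).symm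
  obtain ⟨v, hv1, hv2⟩ := h'.exists_sep hQ 1 0
  obtain ⟨w, hw1, hw2⟩ := h'.exists_sep hQ 0 (-1)
  have e1 := key v
  have e2 := key w
  rw [hv1, hv2, one_smul, zero_smul, sub_zero] at e1
  rw [hw1, hw2, zero_smul, zero_sub, neg_smul, one_smul, neg_neg] at e2
  have hx' : x' = (-polar Q y w) • x + polar Q x w • y := by rw [e2]; module
  have hy' : y' = (-polar Q y v) • x + polar Q x v • y := by rw [e1]; module
  refine ⟨_, _, _, _, hx', hy', ?_⟩
  obtain ⟨u, hu1, hu2⟩ := h.exists_sep hQ 1 0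
  have e3 := he u
  rw [hx', hy', Rf_comb, Rf, hu1, hu2] at e3
  set D := -polar Q y w * polar Q x v - polar Q x w * -polar Q y v with hD
  have e4 : (1 - D) • y = 0 := by
    have : u + (1 : F) • y - (0 : F) • x - (u + D • ((1 : F) • y - (0 : F) • x)) = 0 := by rw [e3, sub_self]
    rw [← this]; module
  have := (h.ind 0 (1 - D) (by rw [e4]; simp)).2
  exact (sub_eq_zero.1 this).symm

section elems

/-- the hyperplane orthogonal to `x` -/
def pp (Q : QuadraticForm F V) (x : V) : Submodule F V := LinearMap.ker (polarBilin Q x)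

theorem mem_pp {x w : V} : w ∈ pp Q x ↔ polar Q x w = 0 := Iff.rfl

/-- Siegel transformations with centre `x` -/
def sgE {x : V} (hx : Q x = 0) : Multiplicative (pp Q x) →* ↥(E Q) where
  toFun w := ⟨siegel Q x ((Multiplicative.toAdd w : pp Q x) : V) hx (mem_pp.1 (Multiplicative.toAdd w : pp Q x).2),
    siegel_mem_E hx (mem_pp.1 (Multiplicative.toAdd w : pp Q x).2)⟩
  map_one' := by
    apply Subtype.ext
    apply LinearEquiv.ext
    intro v
    refine (siegel_apply hx (mem_pp.1 (0 : pp Q x).2) v).trans ?_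
    simp
  map_mul' a b := Subtype.ext (siegel_mul hx (mem_pp.1 (Multiplicative.toAdd a : pp Q x).2)
    (mem_pp.1 (Multiplicative.toAdd b : pp Q x).2)
    (mem_pp.1 ((Multiplicative.toAdd a : pp Q x) + (Multiplicative.toAdd b : pp Q x)).2)).symm

theorem sgE_apply {x : V} (hx : Q x = 0) (w : pp Q x) (v : V) :
    (sgE hx (Multiplicative.ofAdd w) : V ≃ₗ[F] V) v =
      v + polar Q x v • (w : V) - polar Q (w : V) v • x - (Q (w : V) * polar Q x v) • x :=
  siegel_apply hx (mem_pp.1 w.2) v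

theorem sgE_apply' {x : V} (hx : Q x = 0) {w : V} (hw : polar Q x w = 0) (v : V) :
    (sgE hx (Multiplicative.ofAdd ⟨w, mem_pp.2 hw⟩) : V ≃ₗ[F] V) v =
      v + polar Q x v • w - polar Q w v • x - (Q w * polar Q x v) • x :=
  siegel_apply hx hw v

/-- root homomorphism -/
def xh {x y : V} (h : TS Q x y) : Multiplicative F →* ↥(E Q) :=
  (sgE h.left).comp (AddMonoidHom.toMultiplicative
    ((LinearMap.toSpanSingleton F (pp Q x) ⟨y, mem_pp.2 h.pol⟩).toAddMonoidHom))

theorem xh_eq {x y : V} (h : TS Q x y) (c : F) :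
    xh h (Multiplicative.ofAdd c) = sgE h.left (Multiplicative.ofAdd (c • ⟨y, mem_pp.2 h.pol⟩)) := rfl

theorem xh_apply {x y : V} (h : TS Q x y) (c : F) (v : V) :
    (xh h (Multiplicative.ofAdd c) : V ≃ₗ[F] V) v = v + (c * polar Q x v) • y - (c * polar Q y v) • x := by
  rw [xh_eq, sgE_apply]
  simp only [Submodule.coe_smul, QuadraticMap.map_smul, h.right, polar_smul_left, smul_eq_mul]
  module

theorem xh_apply' {x y : V} (h : TS Q x y) (c : F) (v : V) :
    (xh h (Multiplicative.ofAdd c) : V ≃ₗ[F] V) v = Rf Q x (c • y) v := by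
  rw [xh_apply, Rf, polar_smul_left]
  simp only [smul_eq_mul]
  module

theorem xh_injective (hQ : Nondeg Q) {x y : V} (h : TS Q x y) : Function.Injective (xh h) := by
  intro a b hab
  obtain ⟨v, hv1, hv2⟩ := h.exists_sep hQ 1 0
  have h1 := congrArg (fun g : ↥(E Q) => (g : V ≃ₗ[F] V) v) hab
  have h2 := xh_apply h (Multiplicative.toAdd a) v
  have h3 := xh_apply h (Multiplicative.toAdd b) v
  rw [ofAdd_toAdd] at h2 h3
  simp only [h2, h3, hv1, hv2] at h1
  have h4 : (Multiplicative.toAdd a - Multiplicative.toAdd b) • y = 0 := by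
    have h5 := sub_eq_zero.2 h1
    rw [← h5]; module
  have h5 := (h.ind 0 _ (by rw [h4]; simp)).2
  exact Multiplicative.toAdd.injective (sub_eq_zero.1 h5)

/-- the long root subgroup of the line `⟨x, y⟩` -/
def XG {x y : V} (h : TS Q x y) : Subgroup ↥(E Q) := (xh h).range

theorem mem_XG {x y : V} (h : TS Q x y) {g : ↥(E Q)} :
    g ∈ XG h ↔ ∃ c : F, ∀ v, (g : V ≃ₗ[F] V) v = v + (c * polar Q x v) • y - (c * polar Q y v) • x := by
  constructor
  · rintro ⟨c, rfl⟩
    exact ⟨Multiplicative.toAdd c, fun v => by rw [← xh_apply h, ofAdd_toAdd]⟩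
  · rintro ⟨c, hc⟩
    refine ⟨Multiplicative.ofAdd c, ?_⟩
    apply Subtype.ext
    ext v
    rw [xh_apply, hc]

theorem card_XG (hQ : Nondeg Q) {x y : V} (h : TS Q x y) : Nat.card (XG h) = Nat.card F :=
  (Nat.card_congr ((MonoidHom.ofInjective (xh_injective hQ h)).toEquiv)).symm

/-- conjugation of root elements -/
theorem conj_apply {x y : V} {g k : ↥(E Q)} {c : F}
    (hk : ∀ v, (k : V ≃ₗ[F] V) v = v + (c * polar Q x v) • y - (c * polar Q y v) • x) (v : V) :
    ((g * k * g⁻¹ : ↥(E Q)) : V ≃ₗ[F] V) v =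
      v + (c * polar Q ((g : V ≃ₗ[F] V) x) v) • (g : V ≃ₗ[F] V) y - (c * polar Q ((g : V ≃ₗ[F] V) y) v) •
        (g : V ≃ₗ[F] V) x := by
  obtain ⟨w, rfl⟩ := (g : V ≃ₗ[F] V).surjective v
  have h1 : ((g * k * g⁻¹ : ↥(E Q)) : V ≃ₗ[F] V) ((g : V ≃ₗ[F] V) w) = (g : V ≃ₗ[F] V) ((k : V ≃ₗ[F] V) w) := by
    show (g : V ≃ₗ[F] V) ((k : V ≃ₗ[F] V) ((g : V ≃ₗ[F] V).symm ((g : V ≃ₗ[F] V) w))) = _
    rw [LinearEquiv.symm_apply_apply]
  rw [h1, hk, map_sub, map_add, map_smul, map_smul, polar_map (E_le_O g.2), polar_map (E_le_O g.2)]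

end elems

end Cfsg.Agent.H353.TwoOrth
end

-- part: H353/TwoOrthTrans
section
/-!
# HUB H1, orthogonal groups: transitivity on totally singular pairs (helper353)

* `embPerp` : the complement of a hyperbolic pair as an `Emb`;
* `Fr Q x x' y y'` : two orthogonal hyperbolic pairs; `exists_Fr`;
* `trans_TS` : `E Q` is transitive on the totally singular pairs if `dim V ≥ 7` (finite field).
-/

set_option autoImplicit false
set_option linter.unusedSectionVars false
set_option linter.unusedVariables false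

namespace Cfsg.Agent.H353.TwoOrth

open QuadraticMap Cfsg.Agent.LieClassical.OrthCore Cfsg.Agent.LieClassical.OrthTrans
open Cfsg.Agent.LieClassical.OrthFinite Cfsg.Agent.H955 Cfsg.Agent.GenOrth

variable {F V : Type*} [Field F] [AddCommGroup V] [Module F V] {Q : QuadraticForm F V}

/-- the projection to the complement of a hyperbolic pair -/
def prj {x x' : V} (h : Hyp Q x x') : V →ₗ[F] hperp Q x x' where
  toFun v := ⟨Cfsg.Agent.LieClassical.OrthTrans.proj Q x x' v, polar_proj_left h v, polar_proj_right h v⟩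
  map_add' u v := by
    apply Subtype.ext
    show Cfsg.Agent.LieClassical.OrthTrans.proj Q x x' (u + v) =
      Cfsg.Agent.LieClassical.OrthTrans.proj Q x x' u + Cfsg.Agent.LieClassical.OrthTrans.proj Q x x' v
    simp only [Cfsg.Agent.LieClassical.OrthTrans.proj, polar_add_right]
    module
  map_smul' c v := by
    apply Subtype.ext
    show Cfsg.Agent.LieClassical.OrthTrans.proj Q x x' (c • v) = c • Cfsg.Agent.LieClassical.OrthTrans.proj Q x x' v
    simp only [Cfsg.Agent.LieClassical.OrthTrans.proj, polar_smul_right, smul_eq_mul]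
    module

theorem prj_coe {x x' : V} (h : Hyp Q x x') (v : V) : (prj h v : V) = v - polar Q x' v • x - polar Q x v • x' := rfl

/-- the complement of a hyperbolic pair -/
def embPerp (hQ : Nondeg Q) {x x' : V} (h : Hyp Q x x') : Emb Q (res Q (hperp Q x x')) where
  j := (hperp Q x x').subtype
  π := prj h
  c := 1
  hc := one_ne_zero
  hQ w := by rw [one_mul]; rfl
  adj w v := by
    rw [one_mul, polar_res]
    exact (polar_proj_of_perp w.2.1 w.2.2 v).symm
  nd := nondeg_hperp hQ h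

theorem prj_left {x x' : V} (h : Hyp Q x x') : prj h x = 0 := by
  apply Subtype.ext
  rw [prj_coe, h.pair', h.polar_left]
  simp

theorem prj_right {x x' : V} (h : Hyp Q x x') : prj h x' = 0 := by
  apply Subtype.ext
  rw [prj_coe, h.pair, h.polar_right]
  simp

/-- two orthogonal hyperbolic pairs -/
structure Fr (Q : QuadraticForm F V) (x x' y y' : V) : Prop where
  hx : Hyp Q x x'
  hy : Hyp Q y y'
  xy : polar Q x y = 0
  xy' : polar Q x y' = 0
  x'y : polar Q x' y = 0
  x'y' : polar Q x' y' = 0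

namespace Fr

variable {x x' y y' : V}

theorem ts (h : Fr Q x x' y y') : TS Q x y :=
  ⟨h.hx.left, h.hy.left, h.xy, fun a b hab => by
    have h1 := congrArg (polar Q x') hab
    have h2 := congrArg (polar Q y') hab
    rw [polar_add_right, polar_smul_right, polar_smul_right, h.hx.pair', h.x'y, polar_zero_right] at h1
    rw [polar_add_right, polar_smul_right, polar_smul_right, h.hy.pair', polar_comm Q y' x, h.xy',
      polar_zero_right] at h2
    simp only [smul_eq_mul, mul_one, mul_zero, add_zero, zero_add] at h1 h2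
    exact ⟨h1, h2⟩⟩

end Fr

theorem exists_Fr (hG : Good Q) {x x' : V} (h : Hyp Q x x') : ∃ y y', Fr Q x x' y y' := by
  obtain ⟨y, y', hy, h1, h2, h3, h4⟩ := hG.exists_hyp2 h
  exact ⟨y, y', h, hy, h1, h2, h3, h4⟩

/-- a partner frame of a totally singular pair -/
theorem exists_Fr_of_TS (hQ : Nondeg Q) {x y : V} (h : TS Q x y) : ∃ x' y', Fr Q x x' y y' := by
  obtain ⟨v, hv1, hv2⟩ := h.exists_sep hQ 1 0
  -- `x' = v - Q(v) x`
  have hx : Hyp Q x (v + (-Q v) • x) := by
    refine ⟨h.left, ?_, ?_⟩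
    · rw [Q_add, QuadraticMap.map_smul, h.left, polar_smul_right, polar_comm Q v x, hv1]; simp
    · rw [polar_add_right, polar_smul_right, h.polar_left, hv1]; simp
  have hyx : polar Q (v + (-Q v) • x) y = 0 := by
    rw [polar_add_left, polar_smul_left, h.pol, polar_comm Q v y, hv2]; simp
  obtain ⟨z, hz, h1, h2⟩ := exists_hyp_perp hQ hx h.right h.right_ne h.pol hyx
  exact ⟨_, z, hx, hz, h.pol, h1, hyx, h2⟩

variable [Finite F]

/-- transitivity on singular vectors in the complement of a hyperbolic pair -/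
theorem trans_perp (hG : Good Q) (hd : 7 ≤ Module.finrank F V) {x x' : V} (h : Hyp Q x x') {y z : V}
    (hy : Q y = 0) (hz : Q z = 0) (hy0 : y ≠ 0) (hz0 : z ≠ 0) (h1 : polar Q x y = 0) (h2 : polar Q x' y = 0)
    (h3 : polar Q x z = 0) (h4 : polar Q x' z = 0) : ∃ g ∈ E Q, g x = x ∧ g x' = x' ∧ g y = z := by
  have : FiniteDimensional F V := Module.finite_of_finrank_pos (by omega)
  have hfr := finrank_hperp h
  have hG1 : Good (res Q (hperp Q x x')) := good_of_finite (nondeg_hperp hG.nondeg h) (by omega)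
  obtain ⟨g, hg, hgy⟩ := hG1.trans_sing (x := ⟨y, h1, h2⟩) (x' := ⟨z, h3, h4⟩) hy hz
    (fun hc => hy0 (congrArg Subtype.val hc)) (fun hc => hz0 (congrArg Subtype.val hc))
  let e := embPerp hG.nondeg h
  refine ⟨e.ext g, e.ext_mem_E hg, e.ext_of_π_eq_zero g (prj_left h), e.ext_of_π_eq_zero g (prj_right h), ?_⟩
  have h5 := e.ext_j g ⟨y, h1, h2⟩
  rw [hgy] at h5
  exact h5

/-- fixing `x`, `y` can be moved to the complement of a hyperbolic pair -/
theorem move_perp (hQ : Nondeg Q) {x x' y : V} (h : Hyp Q x x') (ht : TS Q x y) :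
    ∃ g ∈ E Q, g x = x ∧ g y = y - polar Q x' y • x := by
  obtain ⟨w, hw1, hw2⟩ := ht.exists_sep hQ 0 (polar Q x' y)
  refine ⟨siegel Q x w ht.left hw1, siegel_mem_E _ _, ?_, ?_⟩
  · rw [siegel_apply, ht.polar_left, polar_comm Q w x, hw1]; simp
  · rw [siegel_apply, ht.pol, polar_comm Q w y, hw2]; simp

theorem trans_TS (hG : Good Q) (hd : 7 ≤ Module.finrank F V) {x y x1 y1 : V} (h : TS Q x y) (h1 : TS Q x1 y1) :
    ∃ g ∈ E Q, g x = x1 ∧ g y = y1 := by
  -- the case `x = x1`
  have key : ∀ {x y y1 : V}, TS Q x y → TS Q x y1 → ∃ g ∈ E Q, g x = x ∧ g y = y1 := by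
    intro x y y1 h h1
    obtain ⟨x', hx⟩ := exists_hyp hG.nondeg h.left h.left_ne
    obtain ⟨g1, hg1, e1, e1'⟩ := move_perp hG.nondeg hx h
    obtain ⟨g2, hg2, e2, e2'⟩ := move_perp hG.nondeg hx h1
    have aux : ∀ {g : V ≃ₗ[F] V} {y : V}, g ∈ E Q → g x = x → TS Q x y → g y = y - polar Q x' y • x →
        Q (g y) = 0 ∧ g y ≠ 0 ∧ polar Q x (g y) = 0 ∧ polar Q x' (g y) = 0 := by
      intro g y hg e ht e'
      have hgO := E_le_O hg
      refine ⟨by rw [mem_O.1 hgO]; exact ht.right, fun hc => ht.right_ne ((LinearEquiv.map_eq_zero_iff g).1 hc), ?_, ?_⟩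
      · have := polar_map hgO x y
        rw [e, ht.pol] at this
        exact this
      · rw [e', polar_sub_right, polar_smul_right, hx.pair']; simp
    obtain ⟨a1, a2, a3, a4⟩ := aux hg1 e1 h e1'
    obtain ⟨b1, b2, b3, b4⟩ := aux hg2 e2 h1 e2'
    obtain ⟨g3, hg3, e3, -, e3'⟩ := trans_perp hG hd hx a1 b1 a2 b2 a3 a4 b3 b4
    refine ⟨g2⁻¹ * (g3 * g1), E_mul (Subgroup.inv_mem _ hg2) (E_mul hg3 hg1), ?_, ?_⟩
    · show g2.symm (g3 (g1 x)) = x
      rw [e1, e3, LinearEquiv.symm_apply_eq]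
      exact e2.symm
    · show g2.symm (g3 (g1 y)) = y1
      rw [e3', LinearEquiv.symm_apply_apply]
  obtain ⟨g1, hg1, e1⟩ := hG.trans_sing h.left h1.left h.left_ne h1.left_ne
  have h2 : TS Q x1 (g1 y) := by
    have := h.map (E_le_O hg1)
    rwa [e1] at this
  obtain ⟨g2, hg2, e2, e2'⟩ := key h2 h1
  refine ⟨g2 * g1, E_mul hg2 hg1, ?_, ?_⟩
  · show g2 (g1 x) = x1
    rw [e1, e2]
  · show g2 (g1 y) = y1
    exact e2'

/-- a third singular vector -/
theorem exists_third (hd : 7 ≤ Module.finrank F V) (x x' y y' : V) :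
    ∃ z : V, z ≠ 0 ∧ Q z = 0 ∧ polar Q x z = 0 ∧ polar Q x' z = 0 ∧ polar Q y z = 0 ∧ polar Q y' z = 0 := by
  obtain ⟨w, hw0, hw, h⟩ := exists_sing_perp (Q := Q) ![x, x', y, y'] (by omega)
  exact ⟨w, hw0, hw, h 0, h 1, h 2, h 3⟩

end Cfsg.Agent.H353.TwoOrth
end

private theorem dce_41d458e3f790 : _root_.True := by
  try have : _root_.True := by simp only [_root_.Cfsg.Agent.H353.TwoOrth.xh.congr_simp]
  try have : _root_.True := by simp only [_root_.Cfsg.Agent.H353.TwoOrth.Rf.eq_1]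
  exact _root_.True.intro
end

-- part: H353/TwoOrthSyl_mg
section
set_option linter.all false
open scoped Cfsg.Agent.FastGrp

-- part: H353/TwoOrthHeis
section
/-!
# HUB H1, orthogonal groups: the Heisenberg group of a totally singular plane (helper353)

`YG h` : the elements of `E Q` acting trivially on `⟨x, y⟩` and on `⟨x, y⟩^⊥ / ⟨x, y⟩`; `card_YG` : its order is
`q ^ (2 (dim V - 4) + 1)`; `card_le` : a subgroup of `YG h` meeting the long root group trivially has order at most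
`q ^ (dim V - 4)`.
-/

set_option autoImplicit false
set_option linter.unusedSectionVars false
set_option linter.unusedVariables false
set_option linter.unusedSimpArgs false

namespace Cfsg.Agent.H353.TwoOrth

open QuadraticMap Cfsg.Agent.LieClassical.OrthCore Cfsg.Agent.LieClassical.OrthTrans
open Cfsg.Agent.LieClassical.OrthFinite Cfsg.Agent.H955 Cfsg.Agent.GenOrth

variable {F V : Type*} [Field F] [AddCommGroup V] [Module F V] {Q : QuadraticForm F V}

/-! ### A bound for isotropic additive subgroups -/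

section bound

variable {W : Type*} [AddCommGroup W] [Module F W]

/-- the alternating form on `W × W` -/
def bt (R : QuadraticForm F W) : LinearMap.BilinForm F (W × W) :=
  LinearMap.mk₂ F (fun u v => polar R u.1 v.2 - polar R v.1 u.2)
    (by intro u u' v; simp only [Prod.fst_add, Prod.snd_add, polar_add_left, polar_add_right]; ring)
    (by intro c u v; simp only [Prod.smul_fst, Prod.smul_snd, polar_smul_left, polar_smul_right, smul_eq_mul]; ring)
    (by intro u v v'; simp only [Prod.fst_add, Prod.snd_add, polar_add_left, polar_add_right]; ring)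
    (by intro c u v; simp only [Prod.smul_fst, Prod.smul_snd, polar_smul_left, polar_smul_right, smul_eq_mul]; ring)

theorem bt_apply (R : QuadraticForm F W) (u v : W × W) : bt R u v = polar R u.1 v.2 - polar R v.1 u.2 := rfl

theorem bt_isRefl (R : QuadraticForm F W) : (bt R).IsRefl := by
  intro u v h
  rw [bt_apply] at h ⊢
  rw [← neg_sub, h, neg_zero]

theorem bt_nondeg {R : QuadraticForm F W} (hR : Nondeg R) : (bt R).Nondegenerate := by
  have h1 : ∀ u : W × W, (∀ v, bt R u v = 0) → u = 0 := by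
    intro u hu
    refine Prod.ext ?_ ?_
    · refine hR _ fun y => ?_
      have := hu (0, y)
      rw [bt_apply] at this
      simpa using this
    · refine hR _ fun y => ?_
      have := hu (y, 0)
      rw [bt_apply, polar_zero_right, zero_sub, neg_eq_zero] at this
      rw [polar_comm]
      exact this
  refine ⟨h1, fun u hu => h1 u fun v => ?_⟩
  exact bt_isRefl R _ _ (hu v)

theorem isotropic_bound [Finite F] [FiniteDimensional F W] {R : QuadraticForm F W} (hR : Nondeg R) (D : Set (W × W))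
    (h : ∀ u ∈ D, ∀ v ∈ D, polar R u.1 v.2 = polar R v.1 u.2) : D.ncard ≤ Nat.card F ^ Module.finrank F W := by
  set S : Submodule F (W × W) := Submodule.span F D with hS
  have h1 : ∀ u ∈ S, ∀ v ∈ S, bt R u v = 0 := by
    intro u hu v hv
    induction hu, hv using Submodule.span_induction₂ with
    | mem_mem u v hu hv => rw [bt_apply, h u hu v hv, sub_self]
    | zero_left v hv => simp
    | zero_right u hu => simp only [_root_.map_zero]
    | add_left x y z _ _ _ h1 h2 => rw [map_add, LinearMap.add_apply, h1, h2, add_zero]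
    | add_right x y z _ _ _ h1 h2 => rw [map_add, h1, h2, add_zero]
    | smul_left r x y _ _ h => rw [map_smul, LinearMap.smul_apply, h, smul_zero]
    | smul_right r x y _ _ h => rw [map_smul, h, smul_zero]
  have h2 : S ≤ (bt R).orthogonal S := by
    intro u hu v hv
    exact h1 v hv u hu
  have h3 := Submodule.finrank_mono h2
  rw [LinearMap.BilinForm.finrank_orthogonal ((bt_nondeg hR :)), Module.finrank_prod] at h3
  have h4 : Module.finrank F S ≤ Module.finrank F W := by omega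
  have hfin : Finite (W × W) := by
    have : Finite W := Module.finite_of_finite F
    infer_instance
  calc D.ncard ≤ (S : Set (W × W)).ncard := Set.ncard_le_ncard Submodule.subset_span (Set.toFinite _)
    _ = Nat.card S := rfl
    _ = Nat.card F ^ Module.finrank F S := Module.natCard_eq_pow_finrank
    _ ≤ Nat.card F ^ Module.finrank F W := Nat.pow_le_pow_right Nat.card_pos h4

end bound

/-! ### Coordinates -/

section coord

variable {x x' y y' : V}

/-- the complement of the frame -/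
def cW (Q : QuadraticForm F V) (x x' y y' : V) : Submodule F V := hperp Q x x' ⊓ hperp Q y y'

theorem mem_cW {w : V} : w ∈ cW Q x x' y y' ↔
    (polar Q x w = 0 ∧ polar Q x' w = 0) ∧ (polar Q y w = 0 ∧ polar Q y' w = 0) := Iff.rfl

/-- the component in `cW` -/
def pW (Q : QuadraticForm F V) (x x' y y' v : V) : V :=
  v - polar Q x' v • x - polar Q x v • x' - polar Q y' v • y - polar Q y v • y'

variable (h : Fr Q x x' y y')

include h

theorem Fr.pols : polar Q x x = 0 ∧ polar Q x x' = 1 ∧ polar Q x y = 0 ∧ polar Q x y' = 0 ∧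
    polar Q x' x = 1 ∧ polar Q x' x' = 0 ∧ polar Q x' y = 0 ∧ polar Q x' y' = 0 ∧
    polar Q y x = 0 ∧ polar Q y x' = 0 ∧ polar Q y y = 0 ∧ polar Q y y' = 1 ∧
    polar Q y' x = 0 ∧ polar Q y' x' = 0 ∧ polar Q y' y = 1 ∧ polar Q y' y' = 0 := by
  refine ⟨h.hx.polar_left, h.hx.pair, h.xy, h.xy', h.hx.pair', h.hx.polar_right, h.x'y, h.x'y', ?_, ?_,
    h.hy.polar_left, h.hy.pair, ?_, ?_, h.hy.pair', h.hy.polar_right⟩
  · rw [polar_comm]; exact h.xy
  · rw [polar_comm]; exact h.x'y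
  · rw [polar_comm]; exact h.xy'
  · rw [polar_comm]; exact h.x'y'

theorem pW_mem (v : V) : pW Q x x' y y' v ∈ cW Q x x' y y' := by
  obtain ⟨a1, a2, a3, a4, a5, a6, a7, a8, a9, a10, a11, a12, a13, a14, a15, a16⟩ := h.pols
  rw [mem_cW]
  simp only [pW, polar_sub_right, polar_smul_right, a1, a2, a3, a4, a5, a6, a7, a8, a9, a10, a11, a12, a13, a14, a15,
    a16, smul_eq_mul, mul_zero, mul_one, sub_zero, sub_self, and_self]

omit h in
theorem pW_eq (v : V) : v = pW Q x x' y y' v + polar Q x' v • x + polar Q x v • x' + polar Q y' v • y +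
    polar Q y v • y' := by
  rw [pW]; abel

theorem pW_of_mem {w : V} (hw : w ∈ cW Q x x' y y') (a b c d : F) :
    pW Q x x' y y' (w + a • x + b • x' + c • y + d • y') = w := by
  obtain ⟨a1, a2, a3, a4, a5, a6, a7, a8, a9, a10, a11, a12, a13, a14, a15, a16⟩ := h.pols
  obtain ⟨⟨w1, w2⟩, w3, w4⟩ := mem_cW.1 hw
  simp only [pW, polar_add_right, polar_smul_right, a1, a2, a3, a4, a5, a6, a7, a8, a9, a10, a11, a12, a13, a14, a15,
    a16, w1, w2, w3, w4, smul_eq_mul, mul_zero, mul_one, add_zero, zero_add]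
  abel

/-- the coordinates -/
def cEquiv : V ≃ₗ[F] cW Q x x' y y' × (F × F) × (F × F) where
  toFun v := (⟨pW Q x x' y y' v, pW_mem h v⟩, (polar Q x' v, polar Q x v), (polar Q y' v, polar Q y v))
  invFun p := (p.1 : V) + p.2.1.1 • x + p.2.1.2 • x' + p.2.2.1 • y + p.2.2.2 • y'
  map_add' u v := by
    refine Prod.ext (Subtype.ext ?_) (Prod.ext (Prod.ext ?_ ?_) (Prod.ext ?_ ?_))
    · show pW Q x x' y y' (u + v) = pW Q x x' y y' u + pW Q x x' y y' v
      simp only [pW, polar_add_right]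
      module
    · exact polar_add_right _ _ _ _
    · exact polar_add_right _ _ _ _
    · exact polar_add_right _ _ _ _
    · exact polar_add_right _ _ _ _
  map_smul' c v := by
    refine Prod.ext (Subtype.ext ?_) (Prod.ext (Prod.ext ?_ ?_) (Prod.ext ?_ ?_))
    · show pW Q x x' y y' (c • v) = c • pW Q x x' y y' v
      simp only [pW, polar_smul_right, smul_eq_mul]
      module
    · exact polar_smul_right _ _ _ _
    · exact polar_smul_right _ _ _ _
    · exact polar_smul_right _ _ _ _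
    · exact polar_smul_right _ _ _ _
  left_inv v := (pW_eq v).symm
  right_inv p := by
    obtain ⟨a1, a2, a3, a4, a5, a6, a7, a8, a9, a10, a11, a12, a13, a14, a15, a16⟩ := h.pols
    obtain ⟨⟨w1, w2⟩, w3, w4⟩ := mem_cW.1 p.1.2
    refine Prod.ext (Subtype.ext ?_) (Prod.ext (Prod.ext ?_ ?_) (Prod.ext ?_ ?_))
    · exact pW_of_mem h p.1.2 _ _ _ _
    all_goals
      simp only [polar_add_right, polar_smul_right, a1, a2, a3, a4, a5, a6, a7, a8, a9, a10, a11, a12, a13, a14, a15,
        a16, w1, w2, w3, w4, smul_eq_mul, mul_zero, mul_one, add_zero, zero_add]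

theorem finrank_cW [FiniteDimensional F V] : Module.finrank F (cW Q x x' y y') + 4 = Module.finrank F V := by
  rw [(cEquiv h).finrank_eq, Module.finrank_prod, Module.finrank_prod, Module.finrank_prod, Module.finrank_self]

theorem nondeg_cW (hQ : Nondeg Q) : Nondeg (res Q (cW Q x x' y y')) := by
  intro w hw
  apply Subtype.ext
  refine hQ _ fun v => ?_
  obtain ⟨⟨w1, w2⟩, w3, w4⟩ := mem_cW.1 w.2
  have h1 := hw ⟨pW Q x x' y y' v, pW_mem h v⟩
  rw [polar_res] at h1
  rw [pW_eq (Q := Q) (x := x) (x' := x') (y := y) (y' := y') v]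
  simp only [polar_add_right, polar_smul_right, polar_comm Q (w : V) x, polar_comm Q (w : V) x',
    polar_comm Q (w : V) y, polar_comm Q (w : V) y', w1, w2, w3, w4, smul_zero, add_zero]
  exact h1

/-- linear maps agreeing on the frame and its complement -/
theorem ext_frame {g k : V ≃ₗ[F] V} (h1 : g x = k x) (h2 : g x' = k x') (h3 : g y = k y) (h4 : g y' = k y')
    (h5 : ∀ w ∈ cW Q x x' y y', g w = k w) : g = k := by
  ext v
  rw [pW_eq (Q := Q) (x := x) (x' := x') (y := y) (y' := y') v]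
  simp only [map_add, map_smul, h1, h2, h3, h4, h5 _ (pW_mem h v)]

end coord

/-! ### The group -/

section group

variable {x x' y y' : V}

/-- the elements acting trivially on `⟨x, y⟩` and `⟨x, y⟩^⊥ / ⟨x, y⟩` -/
def YG (Q : QuadraticForm F V) (x y : V) : Subgroup ↥(E Q) where
  carrier := {g | (g : V ≃ₗ[F] V) x = x ∧ (g : V ≃ₗ[F] V) y = y ∧
    ∀ w, polar Q x w = 0 → polar Q y w = 0 → ∃ a b : F, (g : V ≃ₗ[F] V) w = w + a • x + b • y}
  mul_mem' := by
    rintro g k ⟨g1, g2, g3⟩ ⟨k1, k2, k3⟩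
    have e : ∀ v, ((g * k : ↥(E Q)) : V ≃ₗ[F] V) v = (g : V ≃ₗ[F] V) ((k : V ≃ₗ[F] V) v) := fun v => rfl
    refine ⟨by rw [e, k1, g1], by rw [e, k2, g2], fun w hw hw' => ?_⟩
    obtain ⟨a, b, h1⟩ := k3 w hw hw'
    obtain ⟨c, d, h2⟩ := g3 w hw hw'
    refine ⟨a + c, b + d, ?_⟩
    rw [e, h1, map_add, map_add, map_smul, map_smul, g1, g2, h2]
    module
  one_mem' := ⟨rfl, rfl, fun w _ _ => ⟨0, 0, by simp only [_root_.OneMemClass.coe_one, _root_.LinearEquiv.coe_one, _root_.id_eq, _root_.zero_smul, _root_.add_zero]⟩⟩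
  inv_mem' := by
    rintro g ⟨g1, g2, g3⟩
    have e : ∀ v w, (g : V ≃ₗ[F] V) w = v → ((g⁻¹ : ↥(E Q)) : V ≃ₗ[F] V) v = w := by
      intro v w hvw
      show (g : V ≃ₗ[F] V).symm v = w
      rw [LinearEquiv.symm_apply_eq]
      exact hvw.symm
    refine ⟨e _ _ g1, e _ _ g2, fun w hw hw' => ?_⟩
    obtain ⟨a, b, h1⟩ := g3 w hw hw'
    refine ⟨-a, -b, e _ _ ?_⟩
    rw [map_add, map_add, map_smul, map_smul, g1, g2, h1]
    module

variable (h : Fr Q x x' y y')

include h

/-- first coordinates -/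
theorem YG_x' {g : ↥(E Q)} (hg : g ∈ YG Q x y) :
    (g : V ≃ₗ[F] V) x' = pW Q x x' y y' ((g : V ≃ₗ[F] V) x') + (-Q (pW Q x x' y y' ((g : V ≃ₗ[F] V) x'))) • x + x' +
      polar Q y' ((g : V ≃ₗ[F] V) x') • y := by
  obtain ⟨g1, g2, g3⟩ := hg
  have hgO := E_le_O g.2
  obtain ⟨a1, a2, a3, a4, a5, a6, a7, a8, a9, a10, a11, a12, a13, a14, a15, a16⟩ := h.pols
  set v := (g : V ≃ₗ[F] V) x' with hv
  have h1 : polar Q x v = 1 := by
    have := polar_map hgO x x'
    rw [g1] at this
    rw [hv, this, a2]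
  have h2 : polar Q y v = 0 := by
    have := polar_map hgO y x'
    rw [g2] at this
    rw [hv, this, a10]
  have h3 : Q v = 0 := by rw [hv, mem_O.1 hgO, h.hx.right]
  have h4 := pW_eq (Q := Q) (x := x) (x' := x') (y := y) (y' := y') v
  rw [h1, h2, one_smul, zero_smul, add_zero] at h4
  set w := pW Q x x' y y' v with hw
  obtain ⟨⟨w1, w2⟩, w3, w4⟩ := mem_cW.1 (pW_mem h v)
  rw [← hw] at w1 w2 w3 w4
  have h5 : Q v = Q w + polar Q x' v := by
    conv_lhs => rw [h4]
    simp only [Q_add, QuadraticMap.map_smul, polar_add_left, polar_smul_left, polar_smul_right, h.hx.left,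
      h.hx.right, h.hy.left, a2, a3, a7, polar_comm Q w x, polar_comm Q w x', polar_comm Q w y, w1, w2, w3]
    simp
  rw [h3] at h5
  have h6 : polar Q x' v = -Q w := by linear_combination -h5
  rw [h6] at h4
  exact h4

theorem YG_y' {g : ↥(E Q)} (hg : g ∈ YG Q x y) :
    (g : V ≃ₗ[F] V) y' = pW Q x x' y y' ((g : V ≃ₗ[F] V) y') +
      (-polar Q y' ((g : V ≃ₗ[F] V) x') - polar Q (pW Q x x' y y' ((g : V ≃ₗ[F] V) x'))
        (pW Q x x' y y' ((g : V ≃ₗ[F] V) y'))) • x +
      (-Q (pW Q x x' y y' ((g : V ≃ₗ[F] V) y'))) • y + y' := by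
  have hx' := YG_x' h hg
  obtain ⟨g1, g2, g3⟩ := hg
  have hgO := E_le_O g.2
  obtain ⟨a1, a2, a3, a4, a5, a6, a7, a8, a9, a10, a11, a12, a13, a14, a15, a16⟩ := h.pols
  set u := (g : V ≃ₗ[F] V) x' with hu
  set v := (g : V ≃ₗ[F] V) y' with hv
  have h1 : polar Q x v = 0 := by
    have := polar_map hgO x y'
    rw [g1] at this
    rw [hv, this, a4]
  have h2 : polar Q y v = 1 := by
    have := polar_map hgO y y'
    rw [g2] at this
    rw [hv, this, a12]
  have h3 : Q v = 0 := by rw [hv, mem_O.1 hgO, h.hy.right]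
  have h4 := pW_eq (Q := Q) (x := x) (x' := x') (y := y) (y' := y') v
  rw [h1, h2, one_smul, zero_smul, add_zero] at h4
  set w := pW Q x x' y y' v with hw
  set w0 := pW Q x x' y y' u with hw0
  obtain ⟨⟨w1, w2⟩, w3, w4⟩ := mem_cW.1 (pW_mem h v)
  obtain ⟨⟨w5, w6⟩, w7, w8⟩ := mem_cW.1 (pW_mem h u)
  rw [← hw] at w1 w2 w3 w4
  rw [← hw0] at w5 w6 w7 w8
  have h5 : Q v = Q w + polar Q y' v := by
    conv_lhs => rw [h4]
    simp only [Q_add, QuadraticMap.map_smul, polar_add_left, polar_smul_left, polar_smul_right, h.hx.left,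
      h.hx.right, h.hy.left, h.hy.right, a2, a3, a4, a7, a12, polar_comm Q w x, polar_comm Q w x', polar_comm Q w y,
      polar_comm Q w y', w1, w2, w3, w4]
    simp
  rw [h3] at h5
  have h6 : polar Q y' v = -Q w := by linear_combination -h5
  have h7 : polar Q u v = 0 := by
    rw [hu, hv, polar_map hgO, a8]
  have h8 : polar Q u v = polar Q w0 w + polar Q x' v + polar Q y' u := by
    conv_lhs => rw [h4, hx']
    simp only [polar_add_left, polar_add_right, polar_smul_left, polar_smul_right, a1, a2, a3, a4, a5, a6, a7, a8,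
      a9, a10, a11, a12, a13, a14, a15, a16, polar_comm Q w0 x, polar_comm Q w0 x', polar_comm Q w0 y,
      polar_comm Q w0 y', w1, w2, w3, w4, w5, w6, w7, w8, smul_eq_mul, mul_zero, mul_one, add_zero, zero_add]
  rw [h7] at h8
  have h9 : polar Q x' v = -polar Q y' u - polar Q w0 w := by linear_combination -h8
  rw [h6, h9] at h4
  rw [h4]

theorem YG_w {g : ↥(E Q)} (hg : g ∈ YG Q x y) {w : V} (hw : w ∈ cW Q x x' y y') :
    (g : V ≃ₗ[F] V) w = w + (-polar Q w (pW Q x x' y y' ((g : V ≃ₗ[F] V) x'))) • x +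
      (-polar Q w (pW Q x x' y y' ((g : V ≃ₗ[F] V) y'))) • y := by
  have hx' := YG_x' h hg
  have hy' := YG_y' h hg
  obtain ⟨g1, g2, g3⟩ := hg
  have hgO := E_le_O g.2
  obtain ⟨a1, a2, a3, a4, a5, a6, a7, a8, a9, a10, a11, a12, a13, a14, a15, a16⟩ := h.pols
  obtain ⟨⟨w1, w2⟩, w3, w4⟩ := mem_cW.1 hw
  obtain ⟨a, b, hab⟩ := g3 w w1 w3
  have h1 : polar Q ((g : V ≃ₗ[F] V) w) ((g : V ≃ₗ[F] V) x') = 0 := by
    rw [polar_map hgO, polar_comm]; exact w2
  have h2 : polar Q ((g : V ≃ₗ[F] V) w) ((g : V ≃ₗ[F] V) y') = 0 := by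
    rw [polar_map hgO, polar_comm]; exact w4
  obtain ⟨⟨u1, u2⟩, u3, u4⟩ := mem_cW.1 (pW_mem h ((g : V ≃ₗ[F] V) x'))
  obtain ⟨⟨v1, v2⟩, v3, v4⟩ := mem_cW.1 (pW_mem h ((g : V ≃ₗ[F] V) y'))
  rw [hab, hx'] at h1
  rw [hab, hy'] at h2
  have e1 : a = -polar Q w (pW Q x x' y y' ((g : V ≃ₗ[F] V) x')) := by
    simp only [polar_add_left, polar_add_right, polar_smul_left, polar_smul_right, a1, a2, a3, a4, a5, a6, a7, a8,
      a9, a10, a11, a12, a13, a14, a15, a16, polar_comm Q w x, polar_comm Q w x', polar_comm Q w y,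
      polar_comm Q w y', w1, w2, w3, w4, u1, u2, u3, u4, smul_eq_mul, mul_zero, mul_one, add_zero, zero_add] at h1
    linear_combination h1
  have e2 : b = -polar Q w (pW Q x x' y y' ((g : V ≃ₗ[F] V) y')) := by
    simp only [polar_add_left, polar_add_right, polar_smul_left, polar_smul_right, a1, a2, a3, a4, a5, a6, a7, a8,
      a9, a10, a11, a12, a13, a14, a15, a16, polar_comm Q w x, polar_comm Q w x', polar_comm Q w y,
      polar_comm Q w y', w1, w2, w3, w4, v1, v2, v3, v4, smul_eq_mul, mul_zero, mul_one, add_zero, zero_add] at h2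
    linear_combination h2
  rw [hab, e1, e2]

/-- the coordinates -/
def c1 (g : ↥(E Q)) : cW Q x x' y y' := ⟨pW Q x x' y y' ((g : V ≃ₗ[F] V) x'), pW_mem h _⟩

/-- the coordinates -/
def c2 (g : ↥(E Q)) : cW Q x x' y y' := ⟨pW Q x x' y y' ((g : V ≃ₗ[F] V) y'), pW_mem h _⟩

omit h in
/-- the coordinates -/
def c3 (x' y' : V) (g : ↥(E Q)) : F := polar Q y' ((g : V ≃ₗ[F] V) x')

theorem Y_x' {g : ↥(E Q)} (hg : g ∈ YG Q x y) :
    (g : V ≃ₗ[F] V) x' = (c1 h g : V) + (-Q (c1 h g : V)) • x + x' + c3 x' y' g • y := YG_x' h hg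

theorem Y_y' {g : ↥(E Q)} (hg : g ∈ YG Q x y) :
    (g : V ≃ₗ[F] V) y' = (c2 h g : V) + (-c3 x' y' g - polar Q (c1 h g : V) (c2 h g : V)) • x +
      (-Q (c2 h g : V)) • y + y' := YG_y' h hg

theorem Y_w {g : ↥(E Q)} (hg : g ∈ YG Q x y) {w : V} (hw : w ∈ cW Q x x' y y') :
    (g : V ≃ₗ[F] V) w = w + (-polar Q w (c1 h g : V)) • x + (-polar Q w (c2 h g : V)) • y := YG_w h hg hw

theorem Y_ext {g k : ↥(E Q)} (hg : g ∈ YG Q x y) (hk : k ∈ YG Q x y) (h1 : c1 h g = c1 h k) (h2 : c2 h g = c2 h k)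
    (h3 : c3 x' y' g = c3 x' y' k) : g = k := by
  apply Subtype.ext
  refine ext_frame h ?_ ?_ ?_ ?_ ?_
  · rw [hg.1, hk.1]
  · rw [Y_x' h hg, Y_x' h hk, h1, h3]
  · rw [hg.2.1, hk.2.1]
  · rw [Y_y' h hg, Y_y' h hk, h1, h2, h3]
  · intro w hw
    rw [Y_w h hg hw, Y_w h hk hw, h1, h2]

/-- the product -/
theorem Y_mul_x' {g k : ↥(E Q)} (hg : g ∈ YG Q x y) (hk : k ∈ YG Q x y) :
    ((g * k : ↥(E Q)) : V ≃ₗ[F] V) x' = ((c1 h g : V) + (c1 h k : V)) +
      (-polar Q (c1 h k : V) (c1 h g : V) - Q (c1 h k : V) - Q (c1 h g : V)) • x + (1 : F) • x' +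
      (-polar Q (c1 h k : V) (c2 h g : V) + c3 x' y' k + c3 x' y' g) • y + (0 : F) • y' := by
  have e : ((g * k : ↥(E Q)) : V ≃ₗ[F] V) x' = (g : V ≃ₗ[F] V) ((k : V ≃ₗ[F] V) x') := rfl
  rw [e, Y_x' h hk]
  simp only [map_add, map_smul]
  rw [Y_w h hg (c1 h k).2, Y_x' h hg, hg.1, hg.2.1]
  module

theorem Y_mul_y' {g k : ↥(E Q)} (hg : g ∈ YG Q x y) (hk : k ∈ YG Q x y) :
    ∃ a b : F, ((g * k : ↥(E Q)) : V ≃ₗ[F] V) y' = ((c2 h g : V) + (c2 h k : V)) + a • x + (0 : F) • x' +
      b • y + (1 : F) • y' := by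
  have e : ((g * k : ↥(E Q)) : V ≃ₗ[F] V) y' = (g : V ≃ₗ[F] V) ((k : V ≃ₗ[F] V) y') := rfl
  rw [e, Y_y' h hk]
  simp only [map_add, map_smul]
  rw [Y_w h hg (c2 h k).2, Y_y' h hg, hg.1, hg.2.1]
  refine ⟨-polar Q (c2 h k : V) (c1 h g : V) + (-c3 x' y' k - polar Q (c1 h k : V) (c2 h k : V)) +
    (-c3 x' y' g - polar Q (c1 h g : V) (c2 h g : V)), -polar Q (c2 h k : V) (c2 h g : V) + -Q (c2 h k : V) +
    -Q (c2 h g : V), ?_⟩
  module

theorem c1_mul {g k : ↥(E Q)} (hg : g ∈ YG Q x y) (hk : k ∈ YG Q x y) : c1 h (g * k) = c1 h g + c1 h k := by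
  apply Subtype.ext
  show pW Q x x' y y' (((g * k : ↥(E Q)) : V ≃ₗ[F] V) x') = (c1 h g : V) + (c1 h k : V)
  rw [Y_mul_x' h hg hk]
  exact pW_of_mem h (Submodule.add_mem _ (c1 h g).2 (c1 h k).2) _ _ _ _

theorem c2_mul {g k : ↥(E Q)} (hg : g ∈ YG Q x y) (hk : k ∈ YG Q x y) : c2 h (g * k) = c2 h g + c2 h k := by
  apply Subtype.ext
  show pW Q x x' y y' (((g * k : ↥(E Q)) : V ≃ₗ[F] V) y') = (c2 h g : V) + (c2 h k : V)
  obtain ⟨a, b, e⟩ := Y_mul_y' h hg hk
  rw [e]
  exact pW_of_mem h (Submodule.add_mem _ (c2 h g).2 (c2 h k).2) _ _ _ _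

theorem c3_mul {g k : ↥(E Q)} (hg : g ∈ YG Q x y) (hk : k ∈ YG Q x y) :
    c3 x' y' (g * k) = -polar Q (c1 h k : V) (c2 h g : V) + c3 x' y' k + c3 x' y' g := by
  obtain ⟨a1, a2, a3, a4, a5, a6, a7, a8, a9, a10, a11, a12, a13, a14, a15, a16⟩ := h.pols
  obtain ⟨⟨u1, u2⟩, u3, u4⟩ := mem_cW.1 (c1 h g).2
  obtain ⟨⟨v1, v2⟩, v3, v4⟩ := mem_cW.1 (c1 h k).2
  show polar Q y' (((g * k : ↥(E Q)) : V ≃ₗ[F] V) x') = _
  rw [Y_mul_x' h hg hk]
  simp only [polar_add_right, polar_smul_right, a13, a14, a15, a16, u4, v4, smul_eq_mul, mul_zero, mul_one, add_zero,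
    zero_add]

theorem c1_one : c1 h (1 : ↥(E Q)) = 0 := by
  have h1 := c1_mul h (YG Q x y).one_mem (YG Q x y).one_mem
  rw [one_mul] at h1
  simpa using h1

theorem c2_one : c2 h (1 : ↥(E Q)) = 0 := by
  have h1 := c2_mul h (YG Q x y).one_mem (YG Q x y).one_mem
  rw [one_mul] at h1
  simpa using h1

omit h in
theorem mem_YG {g : ↥(E Q)} : g ∈ YG Q x y ↔ (g : V ≃ₗ[F] V) x = x ∧ (g : V ≃ₗ[F] V) y = y ∧
    ∀ w, polar Q x w = 0 → polar Q y w = 0 → ∃ a b : F, (g : V ≃ₗ[F] V) w = w + a • x + b • y := Iff.rfl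

theorem pW_self {w : V} (hw : w ∈ cW Q x x' y y') (a b c d : F) (v : V)
    (hv : v = w + a • x + b • x' + c • y + d • y') : pW Q x x' y y' v = w := by
  rw [hv]; exact pW_of_mem h hw a b c d

/-- first family -/
theorem exists_s1 (w : cW Q x x' y y') : ∃ g ∈ YG Q x y, c1 h g = w ∧ c2 h g = 0 ∧ c3 x' y' g = 0 := by
  obtain ⟨a1, a2, a3, a4, a5, a6, a7, a8, a9, a10, a11, a12, a13, a14, a15, a16⟩ := h.pols
  obtain ⟨⟨u1, u2⟩, u3, u4⟩ := mem_cW.1 w.2
  have hw : polar Q x (w : V) = 0 := u1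
  refine ⟨sgE h.hx.left (Multiplicative.ofAdd ⟨(w : V), mem_pp.2 hw⟩), ?_, ?_, ?_, ?_⟩
  · refine ⟨?_, ?_, fun v hv hv' => ⟨-polar Q (w : V) v, 0, ?_⟩⟩
    · rw [sgE_apply' _ hw, a1, polar_comm Q (w : V) x, hw]; simp
    · rw [sgE_apply' _ hw, a3, polar_comm Q (w : V) y, u3]; simp
    · rw [sgE_apply' _ hw, hv]; simp only [zero_smul, mul_zero, add_zero, sub_zero]; module
  · apply Subtype.ext
    refine pW_self h w.2 (-Q (w : V)) 1 0 0 _ ?_
    rw [sgE_apply' _ hw, a2, polar_comm Q (w : V) x', u2]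
    module
  · apply Subtype.ext
    refine pW_self h (Submodule.zero_mem _) 0 0 0 1 _ ?_
    rw [sgE_apply' _ hw, a4, polar_comm Q (w : V) y', u4]
    module
  · show polar Q y' _ = 0
    rw [sgE_apply' _ hw, a2, polar_comm Q (w : V) x', u2]
    simp only [polar_sub_right, polar_add_right, polar_smul_right, a13, a14, u4]
    simp

/-- second family -/
theorem exists_s2 (w : cW Q x x' y y') : ∃ g ∈ YG Q x y, c1 h g = 0 ∧ c2 h g = w ∧ c3 x' y' g = 0 := by
  obtain ⟨a1, a2, a3, a4, a5, a6, a7, a8, a9, a10, a11, a12, a13, a14, a15, a16⟩ := h.pols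
  obtain ⟨⟨u1, u2⟩, u3, u4⟩ := mem_cW.1 w.2
  have hw : polar Q y (w : V) = 0 := u3
  refine ⟨sgE h.hy.left (Multiplicative.ofAdd ⟨(w : V), mem_pp.2 hw⟩), ?_, ?_, ?_, ?_⟩
  · refine ⟨?_, ?_, fun v hv hv' => ⟨0, -polar Q (w : V) v, ?_⟩⟩
    · rw [sgE_apply' _ hw, a9, polar_comm Q (w : V) x, u1]; simp
    · rw [sgE_apply' _ hw, a11, polar_comm Q (w : V) y, u3]; simp
    · rw [sgE_apply' _ hw, hv']; simp only [zero_smul, mul_zero, add_zero, sub_zero]; module
  · apply Subtype.ext
    refine pW_self h (Submodule.zero_mem _) 0 1 0 0 _ ?_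
    rw [sgE_apply' _ hw, a10, polar_comm Q (w : V) x', u2]
    module
  · apply Subtype.ext
    refine pW_self h w.2 0 0 (-Q (w : V)) 1 _ ?_
    rw [sgE_apply' _ hw, a12, polar_comm Q (w : V) y', u4]
    module
  · show polar Q y' _ = 0
    rw [sgE_apply' _ hw, a10, polar_comm Q (w : V) x', u2]
    simp [a14]

/-- root elements -/
theorem root_mem (c : F) : xh h.ts (Multiplicative.ofAdd c) ∈ YG Q x y ∧ c1 h (xh h.ts (Multiplicative.ofAdd c)) = 0 ∧
    c2 h (xh h.ts (Multiplicative.ofAdd c)) = 0 ∧ c3 x' y' (xh h.ts (Multiplicative.ofAdd c)) = c := by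
  obtain ⟨a1, a2, a3, a4, a5, a6, a7, a8, a9, a10, a11, a12, a13, a14, a15, a16⟩ := h.pols
  refine ⟨⟨?_, ?_, fun v hv hv' => ⟨0, 0, ?_⟩⟩, ?_, ?_, ?_⟩
  · rw [xh_apply, a1, a9]; simp
  · rw [xh_apply, a3, a11]; simp
  · rw [xh_apply, hv, hv']; simp
  · apply Subtype.ext
    refine pW_self h (Submodule.zero_mem _) 0 1 c 0 _ ?_
    rw [xh_apply, a2, a10]
    module
  · apply Subtype.ext
    refine pW_self h (Submodule.zero_mem _) (-c) 0 0 1 _ ?_
    rw [xh_apply, a4, a12]
    module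
  · show polar Q y' _ = c
    rw [xh_apply, a2, a10]
    simp [polar_add_right, polar_smul_right, a14, a15]

theorem mem_XG_of {g : ↥(E Q)} (hg : g ∈ YG Q x y) (h1 : c1 h g = 0) (h2 : c2 h g = 0) : g ∈ XG h.ts := by
  obtain ⟨r1, r2, r3, r4⟩ := root_mem h (c3 x' y' g)
  have : g = xh h.ts (Multiplicative.ofAdd (c3 x' y' g)) := Y_ext h hg r1 (by rw [h1, r2]) (by rw [h2, r3]) r4.symm
  rw [this]
  exact ⟨_, rfl⟩

/-- the coordinate bijection -/
theorem card_YG [Finite F] [FiniteDimensional F V] :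
    Nat.card (YG Q x y) = Nat.card F ^ (2 * (Module.finrank F V - 4) + 1) := by
  have hbij : Function.Bijective (fun g : YG Q x y => (c1 h (g : ↥(E Q)), c2 h (g : ↥(E Q)), c3 x' y' (g : ↥(E Q)))) := by
    constructor
    · intro g k hgk
      simp only [Prod.mk.injEq] at hgk
      exact Subtype.ext (Y_ext h g.2 k.2 hgk.1 hgk.2.1 hgk.2.2)
    · rintro ⟨w1, w2, c⟩
      obtain ⟨g1, hg1, p1, p2, p3⟩ := exists_s1 h w1
      obtain ⟨g2, hg2, q1, q2, q3⟩ := exists_s2 h w2
      obtain ⟨hg3, r1, r2, r3⟩ := root_mem h c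
      refine ⟨⟨g1 * g2 * xh h.ts (Multiplicative.ofAdd c), mul_mem (mul_mem hg1 hg2) hg3⟩, ?_⟩
      have hm := mul_mem hg1 hg2
      simp only [Prod.mk.injEq]
      refine ⟨?_, ?_, ?_⟩
      · rw [c1_mul h hm hg3, c1_mul h hg1 hg2, p1, q1, r1, add_zero, add_zero]
      · rw [c2_mul h hm hg3, c2_mul h hg1 hg2, p2, q2, r2, add_zero, zero_add]
      · rw [c3_mul h hm hg3, c3_mul h hg1 hg2, p3, q1, q3, r1, r3]
        simp only [_root_.ZeroMemClass.coe_zero, _root_.QuadraticMap.polar_zero_left, _root_.neg_zero, _root_.zero_add, _root_.add_zero]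
  rw [Nat.card_congr (Equiv.ofBijective _ hbij), Nat.card_prod, Nat.card_prod]
  have h1 : Nat.card (cW Q x x' y y') = Nat.card F ^ (Module.finrank F V - 4) := by
    rw [Module.natCard_eq_pow_finrank (K := F)]
    congr 1
    have := finrank_cW h
    omega
  rw [h1]
  ring

/-- **the bound** -/
theorem card_le [Finite F] [FiniteDimensional F V] (hQ : Nondeg Q) (D : Subgroup ↥(E Q)) (hD : D ≤ YG Q x y)
    (hX : ∀ g ∈ D, g ∈ XG h.ts → g = 1) : Nat.card D ≤ Nat.card F ^ (Module.finrank F V - 4) := by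
  have hinv : ∀ g ∈ D, c1 h g⁻¹ = -c1 h g ∧ c2 h g⁻¹ = -c2 h g := by
    intro g hg
    have h1 := c1_mul h (hD hg) (hD (inv_mem hg))
    have h2 := c2_mul h (hD hg) (hD (inv_mem hg))
    rw [mul_inv_cancel, c1_one] at h1
    rw [mul_inv_cancel, c2_one] at h2
    exact ⟨(neg_eq_of_add_eq_zero_right h1.symm).symm, (neg_eq_of_add_eq_zero_right h2.symm).symm⟩
  have key : ∀ g ∈ D, c1 h g = 0 → c2 h g = 0 → g = 1 := fun g hg h1 h2 => hX g hg (mem_XG_of h (hD hg) h1 h2)
  set f : D → cW Q x x' y y' × cW Q x x' y y' := fun g => (c1 h (g : ↥(E Q)), c2 h (g : ↥(E Q))) with hf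
  have hinj : Function.Injective f := by
    intro g k hgk
    simp only [hf, Prod.mk.injEq] at hgk
    have h1 : (g : ↥(E Q)) * (k : ↥(E Q))⁻¹ = 1 := by
      apply key _ (mul_mem g.2 (inv_mem k.2))
      · rw [c1_mul h (hD g.2) (hD (inv_mem k.2)), (hinv _ k.2).1, hgk.1, add_neg_cancel]
      · rw [c2_mul h (hD g.2) (hD (inv_mem k.2)), (hinv _ k.2).2, hgk.2, add_neg_cancel]
    exact Subtype.ext (mul_inv_eq_one.1 h1)
  have hcomm : ∀ g ∈ D, ∀ k ∈ D, g * k = k * g := by
    intro g hg k hk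
    have h1 : (g * k) * (k * g)⁻¹ = 1 := by
      apply key _ (mul_mem (mul_mem hg hk) (inv_mem (mul_mem hk hg)))
      · rw [c1_mul h (hD (mul_mem hg hk)) (hD (inv_mem (mul_mem hk hg))), (hinv _ (mul_mem hk hg)).1,
          c1_mul h (hD hg) (hD hk), c1_mul h (hD hk) (hD hg)]
        abel
      · rw [c2_mul h (hD (mul_mem hg hk)) (hD (inv_mem (mul_mem hk hg))), (hinv _ (mul_mem hk hg)).2,
          c2_mul h (hD hg) (hD hk), c2_mul h (hD hk) (hD hg)]
        abel
    exact mul_inv_eq_one.1 h1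
  have hcard : Nat.card D = (Set.range f).ncard := by
    rw [← Nat.card_range_of_injective hinj]
    rfl
  have h1 : Module.finrank F V - 4 = Module.finrank F (cW Q x x' y y') := by
    have := finrank_cW h
    omega
  rw [hcard, h1]
  refine isotropic_bound (nondeg_cW h hQ) _ ?_
  rintro _ ⟨g, rfl⟩ _ ⟨k, rfl⟩
  have h2 := c3_mul h (hD g.2) (hD k.2)
  have h3 := c3_mul h (hD k.2) (hD g.2)
  rw [hcomm _ g.2 _ k.2] at h2
  rw [polar_res, polar_res]
  show polar Q (c1 h (g : ↥(E Q)) : V) (c2 h (k : ↥(E Q)) : V) = polar Q (c1 h (k : ↥(E Q)) : V) (c2 h (g : ↥(E Q)) : V)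
  linear_combination h3 - h2

end group

end Cfsg.Agent.H353.TwoOrth
end

-- part: H353/TwoOrthSyl
section
/-!
# HUB H1, orthogonal groups: the centre of a Sylow subgroup is a long root subgroup (helper353)

`exists_sylow` : `E Q`, `Q` nondegenerate over a finite field of characteristic `p`: some Sylow `p`-subgroup has centre
`XG h.ts`, for any frame `h`.
-/

set_option autoImplicit false
set_option linter.unusedSectionVars false
set_option linter.unusedVariables false
set_option linter.unusedSimpArgs false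

namespace Cfsg.Agent.H353.TwoOrth

open QuadraticMap Cfsg.Agent.LieClassical.OrthCore Cfsg.Agent.LieClassical.OrthTrans
open Cfsg.Agent.LieClassical.OrthFinite Cfsg.Agent.H955 Cfsg.Agent.GenOrth

variable {F V : Type*} [Field F] [AddCommGroup V] [Module F V] {Q : QuadraticForm F V} {x x' y y' : V}

theorem pp_pgroup (p : ℕ) [CharP F p] (x : V) : IsPGroup p (Multiplicative (pp Q x)) := by
  intro g
  refine ⟨1, ?_⟩
  rw [pow_one]
  apply Multiplicative.toAdd.injective
  rw [toAdd_pow, toAdd_one, ← Nat.cast_smul_eq_nsmul F, CharP.cast_eq_zero, zero_smul]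

/-- conjugation of Siegel elements -/
theorem conj_sgE {x w : V} (hx : Q x = 0) (hw : polar Q x w = 0) (g : ↥(E Q)) (v : V) :
    ((g * sgE hx (Multiplicative.ofAdd ⟨w, mem_pp.2 hw⟩) * g⁻¹ : ↥(E Q)) : V ≃ₗ[F] V) v =
      v + polar Q ((g : V ≃ₗ[F] V) x) v • (g : V ≃ₗ[F] V) w - polar Q ((g : V ≃ₗ[F] V) w) v • (g : V ≃ₗ[F] V) x -
        (Q w * polar Q ((g : V ≃ₗ[F] V) x) v) • (g : V ≃ₗ[F] V) x := by
  have hg := E_le_O g.2
  have hx' : Q ((g : V ≃ₗ[F] V) x) = 0 := by rw [mem_O.1 hg]; exact hx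
  have hw' : polar Q ((g : V ≃ₗ[F] V) x) ((g : V ≃ₗ[F] V) w) = 0 := by rw [polar_map hg]; exact hw
  have h1 := siegel_conj hg hx hw hx' hw'
  have h2 : ((g * sgE hx (Multiplicative.ofAdd ⟨w, mem_pp.2 hw⟩) * g⁻¹ : ↥(E Q)) : V ≃ₗ[F] V) =
      (g : V ≃ₗ[F] V) * siegel Q x w hx hw * (g : V ≃ₗ[F] V)⁻¹ := rfl
  rw [h2, h1, siegel_apply, mem_O.1 hg]

/-- the unipotent group generated by the `siegel x w` and the `siegel y w`, `w ⊥ x, y` -/
def KY (hy : Q y = 0) (x : V) : Subgroup ↥(E Q) :=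
  (AddSubgroup.toSubgroup ((LinearMap.ker ((polarBilin Q x).comp (pp Q y).subtype)).toAddSubgroup)).map (sgE hy)

theorem mem_KY {hy : Q y = 0} {g : ↥(E Q)} :
    g ∈ KY hy x ↔ ∃ (w : V) (h1 : polar Q y w = 0), polar Q x w = 0 ∧
      sgE hy (Multiplicative.ofAdd ⟨w, mem_pp.2 h1⟩) = g := by
  constructor
  · rintro ⟨w, hw, rfl⟩
    exact ⟨((Multiplicative.toAdd w : pp Q y) : V), (Multiplicative.toAdd w : pp Q y).2, hw, rfl⟩
  · rintro ⟨w, h1, h2, rfl⟩
    exact ⟨Multiplicative.ofAdd ⟨w, mem_pp.2 h1⟩, h2, rfl⟩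

theorem mem_range_sgE {hx : Q x = 0} {g : ↥(E Q)} :
    g ∈ (sgE hx).range ↔ ∃ (w : V) (h1 : polar Q x w = 0), sgE hx (Multiplicative.ofAdd ⟨w, mem_pp.2 h1⟩) = g := by
  constructor
  · rintro ⟨w, rfl⟩
    exact ⟨((Multiplicative.toAdd w : pp Q x) : V), (Multiplicative.toAdd w : pp Q x).2, rfl⟩
  · rintro ⟨w, h1, rfl⟩
    exact ⟨Multiplicative.ofAdd ⟨w, mem_pp.2 h1⟩, rfl⟩

variable (h : Fr Q x x' y y')

include h

theorem KY_le_normalizer : KY h.hy.left x ≤ Subgroup.normalizer (((sgE h.hx.left).range : Subgroup ↥(E Q)) : Set ↥(E Q)) := by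
  obtain ⟨a1, a2, a3, a4, a5, a6, a7, a8, a9, a10, a11, a12, a13, a14, a15, a16⟩ := h.pols
  have key : ∀ g ∈ KY h.hy.left x, ∀ k ∈ (sgE h.hx.left).range, g * k * g⁻¹ ∈ (sgE h.hx.left).range := by
    intro g hg k hk
    obtain ⟨w, hw1, hw2, rfl⟩ := mem_KY.1 hg
    obtain ⟨u, hu, rfl⟩ := mem_range_sgE.1 hk
    set g := sgE h.hy.left (Multiplicative.ofAdd ⟨w, mem_pp.2 hw1⟩) with hgd
    have hgx : (g : V ≃ₗ[F] V) x = x := by
      rw [hgd, sgE_apply' _ hw1, a9, polar_comm Q w x, hw2]; simp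
    have hgO := E_le_O g.2
    have h1 : polar Q x ((g : V ≃ₗ[F] V) u) = 0 := by
      have := polar_map hgO x u
      rw [hgx] at this
      rw [this, hu]
    refine mem_range_sgE.2 ⟨(g : V ≃ₗ[F] V) u, h1, ?_⟩
    apply Subtype.ext
    apply LinearEquiv.ext
    intro v
    rw [conj_sgE _ hu, sgE_apply' _ h1, hgx, mem_O.1 hgO]
  intro g hg
  rw [Subgroup.mem_normalizer_iff]
  intro k
  refine ⟨key g hg k, fun hk => ?_⟩
  have := key g⁻¹ (inv_mem hg) _ hk
  have e : g⁻¹ * (g * k * g⁻¹) * g⁻¹⁻¹ = k := by group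
  rwa [e] at this

theorem pgroup_sup (p : ℕ) [Fact p.Prime] [CharP F p] : IsPGroup p (KY h.hy.left x ⊔ (sgE h.hx.left).range : Subgroup ↥(E Q)) := by
  refine IsPGroup.to_sup_of_normal_right' ?_ ?_ (KY_le_normalizer h)
  · exact IsPGroup.map (IsPGroup.to_subgroup (pp_pgroup p y) _) _
  · exact IsPGroup.of_surjective (pp_pgroup p x) _ (sgE h.hx.left).rangeRestrict_surjective

/-- **the centralizer** -/
theorem mem_XG_of_comm [FiniteDimensional F V] (hQ : Nondeg Q) (hd : 5 ≤ Module.finrank F V) {p : ℕ} [Fact p.Prime]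
    [CharP F p] {z : ↥(E Q)} {k : ℕ} (hz : z ^ p ^ k = 1)
    (h1 : ∀ g ∈ (sgE h.hx.left).range, z * g * z⁻¹ = g) (h2 : ∀ g ∈ KY h.hy.left x, z * g * z⁻¹ = g) :
    z ∈ XG h.ts := by
  obtain ⟨a1, a2, a3, a4, a5, a6, a7, a8, a9, a10, a11, a12, a13, a14, a15, a16⟩ := h.pols
  have hzO := E_le_O z.2
  have c1' : ∀ (w : V) (hw : polar Q x w = 0) (v : V),
      v + polar Q ((z : V ≃ₗ[F] V) x) v • (z : V ≃ₗ[F] V) w - polar Q ((z : V ≃ₗ[F] V) w) v • (z : V ≃ₗ[F] V) x -
        (Q w * polar Q ((z : V ≃ₗ[F] V) x) v) • (z : V ≃ₗ[F] V) x =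
      v + polar Q x v • w - polar Q w v • x - (Q w * polar Q x v) • x := by
    intro w hw v
    rw [← conj_sgE h.hx.left hw z v, h1 _ (mem_range_sgE.2 ⟨w, hw, rfl⟩), sgE_apply' _ hw]
  have c2' : ∀ (w : V) (hw : polar Q y w = 0) (hw' : polar Q x w = 0) (v : V),
      v + polar Q ((z : V ≃ₗ[F] V) y) v • (z : V ≃ₗ[F] V) w - polar Q ((z : V ≃ₗ[F] V) w) v • (z : V ≃ₗ[F] V) y -
        (Q w * polar Q ((z : V ≃ₗ[F] V) y) v) • (z : V ≃ₗ[F] V) y =
      v + polar Q y v • w - polar Q w v • y - (Q w * polar Q y v) • y := by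
    intro w hw hw' v
    rw [← conj_sgE h.hy.left hw z v, h2 _ (mem_KY.2 ⟨w, hw, hw', rfl⟩), sgE_apply' _ hw]
  -- `z x` is a multiple of `x`
  have hTS' : TS Q x y' := by
    have h' : Fr Q x x' y' y := ⟨h.hx, h.hy.symm, h.xy', h.xy, h.x'y', h.x'y⟩
    exact h'.ts
  have hline : ∀ w, TS Q x w → ∃ a b : F, (z : V ≃ₗ[F] V) x = a • x + b • w := by
    intro w hw
    obtain ⟨a, b, c, d, e1, -, -⟩ := Rf_inj hQ hw (hw.map hzO) (fun v => by
      have := c1' w hw.pol v
      rw [hw.right, zero_mul, zero_smul, sub_zero, zero_mul, zero_smul, sub_zero] at this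
      rw [Rf, Rf]
      exact this.symm)
    exact ⟨a, b, e1⟩
  obtain ⟨a, b, e1⟩ := hline y h.ts
  obtain ⟨a', b', e2⟩ := hline y' hTS'
  have hb : b = 0 := by
    have h3 := congrArg (polar Q y') (e1.symm.trans e2)
    simp only [polar_add_right, polar_smul_right, a13, a15, a16, smul_eq_mul, mul_zero, mul_one, zero_add] at h3
    exact h3
  rw [hb, zero_smul, add_zero] at e1
  have hpow : ∀ n : ℕ, ((z ^ n : ↥(E Q)) : V ≃ₗ[F] V) x = a ^ n • x := by
    intro n
    induction n with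
    | zero => simp only [_root_.pow_zero, _root_.OneMemClass.coe_one, _root_.LinearEquiv.coe_one, _root_.id_eq, _root_.one_smul]
    | succ n ih =>
      have : ((z ^ (n + 1) : ↥(E Q)) : V ≃ₗ[F] V) x = ((z ^ n : ↥(E Q)) : V ≃ₗ[F] V) ((z : V ≃ₗ[F] V) x) := rfl
      rw [this, e1, map_smul, ih, smul_smul, pow_succ, mul_comm]
  have ha : a = 1 := by
    have h3 := hpow (p ^ k)
    rw [hz] at h3
    have h4 : (a ^ p ^ k - 1) • x = 0 := by
      rw [sub_smul, ← h3, one_smul]
      exact sub_self x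
    have h5 : a ^ p ^ k = 1 := by
      rcases smul_eq_zero.1 h4 with h6 | h6
      · exact sub_eq_zero.1 h6
      · exact absurd h6 h.hx.left_ne
    have hE : ExpChar F p := ExpChar.prime Fact.out
    have h6 := (ExpChar.pow_prime_pow_mul_eq_one_iff p k 1 a).1 (by rw [mul_one]; exact h5)
    rwa [pow_one] at h6
  rw [ha, one_smul] at e1
  -- action on the hyperplane
  have e3 : ∀ w, polar Q x w = 0 → (z : V ≃ₗ[F] V) w = w + (polar Q ((z : V ≃ₗ[F] V) w) x' - polar Q w x') • x := by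
    intro w hw
    have h3 := c1' w hw x'
    rw [e1, a2, one_smul, one_smul, mul_one] at h3
    have h4 : (z : V ≃ₗ[F] V) w = w + (polar Q ((z : V ≃ₗ[F] V) w) x' - polar Q w x') • x := by
      have h5 := sub_eq_zero.2 h3
      rw [← sub_eq_zero, ← h5]
      module
    exact h4
  -- second relation
  have key : ∀ w ∈ cW Q x x' y y', polar Q ((z : V ≃ₗ[F] V) y) x' • w +
      (-(polar Q ((z : V ≃ₗ[F] V) w) x') - Q w * polar Q ((z : V ≃ₗ[F] V) y) x') • y +
      (-(Q w * polar Q ((z : V ≃ₗ[F] V) y) x' * polar Q ((z : V ≃ₗ[F] V) y) x')) • x = 0 := by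
    intro w hw
    obtain ⟨⟨w1, w2⟩, w3, w4⟩ := mem_cW.1 hw
    have h3 := c2' w w3 w1 x'
    have e4 := e3 w w1
    have e5 := e3 y a3
    rw [polar_comm Q w x', w2, sub_zero] at e4
    rw [polar_comm Q y x', a7, sub_zero] at e5
    rw [a10, polar_comm Q w x', w2] at h3
    set f := polar Q ((z : V ≃ₗ[F] V) y) x' with hf
    set e := polar Q ((z : V ≃ₗ[F] V) w) x' with he
    rw [e4, e5] at h3
    have h5 := sub_eq_zero.2 h3
    rw [← h5]
    module
  -- `f = 0`
  have hfr := finrank_cW h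
  have hnd := nondeg_cW h hQ
  have hf0 : polar Q ((z : V ≃ₗ[F] V) y) x' = 0 := by
    have hnt : Nontrivial (cW Q x x' y y') := Module.nontrivial_of_finrank_pos (R := F) (by omega)
    obtain ⟨w, hw⟩ := exists_ne (0 : cW Q x x' y y')
    obtain ⟨w', hw'⟩ := hnd.exists_polar_eq hw 1
    rw [polar_res] at hw'
    obtain ⟨⟨u1, u2⟩, u3, u4⟩ := mem_cW.1 w'.2
    have h3 := congrArg (fun v => polar Q v (w' : V)) (key w w.2)
    simp only [polar_add_left, polar_smul_left, hw', u1, u3, polar_zero_left, smul_eq_mul, mul_zero, mul_one,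
      add_zero] at h3
    exact h3
  have he0 : ∀ w ∈ cW Q x x' y y', polar Q ((z : V ≃ₗ[F] V) w) x' = 0 := by
    intro w hw
    obtain ⟨⟨w1, w2⟩, w3, w4⟩ := mem_cW.1 hw
    have h3 := congrArg (fun v => polar Q y' v) (key w hw)
    simp only [hf0, polar_add_right, polar_smul_right, a13, a15, w4, polar_zero_right, smul_eq_mul, mul_zero, mul_one,
      add_zero, zero_add, sub_zero] at h3
    exact neg_eq_zero.1 h3
  have hzy : (z : V ≃ₗ[F] V) y = y := by
    have e5 := e3 y a3
    rw [polar_comm Q y x', a7, sub_zero, hf0, zero_smul, add_zero] at e5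
    exact e5
  have hzw : ∀ w ∈ cW Q x x' y y', (z : V ≃ₗ[F] V) w = w := by
    intro w hw
    obtain ⟨⟨w1, w2⟩, w3, w4⟩ := mem_cW.1 hw
    have e4 := e3 w w1
    rw [polar_comm Q w x', w2, sub_zero, he0 w hw, zero_smul, add_zero] at e4
    exact e4
  have hzY : z ∈ YG Q x y := by
    refine mem_YG.2 ⟨e1, hzy, fun w hw _ => ⟨polar Q ((z : V ≃ₗ[F] V) w) x' - polar Q w x', 0, ?_⟩⟩
    rw [zero_smul, add_zero]
    exact e3 w hw
  refine mem_XG_of h hzY ?_ ?_
  · refine hnd _ fun w => ?_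
    rw [polar_res]
    have h3 := Y_w h hzY w.2
    rw [hzw _ w.2, add_assoc] at h3
    have h4 := h.ts.ind _ _ (left_eq_add.1 h3)
    rw [polar_comm]
    exact neg_eq_zero.1 h4.1
  · refine hnd _ fun w => ?_
    rw [polar_res]
    have h3 := Y_w h hzY w.2
    rw [hzw _ w.2, add_assoc] at h3
    have h4 := h.ts.ind _ _ (left_eq_add.1 h3)
    rw [polar_comm]
    exact neg_eq_zero.1 h4.2

/-- the centre of a Sylow subgroup -/
theorem exists_sylow [Finite F] [FiniteDimensional F V] (hQ : Nondeg Q) (hd : 5 ≤ Module.finrank F V) (p : ℕ)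
    [Fact p.Prime] [CharP F p] :
    ∃ U : Sylow p ↥(E Q), ∀ g, g ∈ XG h.ts ↔ g ∈ U ∧ ∀ u ∈ U, g * u = u * g := by
  have hfV : Finite V := Module.finite_of_finite F
  have hfE : Finite (V ≃ₗ[F] V) := Finite.of_injective (fun g : V ≃ₗ[F] V => (g : V → V)) DFunLike.coe_injective
  obtain ⟨U, hU⟩ := (pgroup_sup h p).exists_le_sylow
  have hKY : KY h.hy.left x ≤ U := le_trans le_sup_left hU
  have hsg : (sgE h.hx.left).range ≤ U := le_trans le_sup_right hU
  have hXU : XG h.ts ≤ U := by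
    rintro _ ⟨c, rfl⟩
    exact hsg ⟨_, rfl⟩
  have hle : ∀ g, g ∈ U → (∀ u ∈ U, g * u = u * g) → g ∈ XG h.ts := by
    intro g hg hc
    obtain ⟨k, hk⟩ := U.2 ⟨g, hg⟩
    refine mem_XG_of_comm h hQ hd (p := p) (k := k) (congrArg Subtype.val hk) ?_ ?_
    · intro u hu
      rw [hc u (hsg hu), mul_inv_cancel_right]
    · intro u hu
      rw [hc u (hKY hu), mul_inv_cancel_right]
  refine ⟨U, fun g => ⟨fun hg => ⟨hXU hg, ?_⟩, fun hg => hle g hg.1 hg.2⟩⟩
  -- a nontrivial central element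
  have hntU : Nontrivial U := by
    have h1 := card_XG hQ h.ts
    have h2 : Nontrivial (XG h.ts) := by
      rw [← Finite.one_lt_card_iff_nontrivial, h1]
      exact Finite.one_lt_card
    obtain ⟨a, b, hab⟩ := h2
    exact ⟨⟨⟨a, hXU a.2⟩, ⟨b, hXU b.2⟩, fun hc => hab (Subtype.ext (Subtype.mk.inj hc))⟩⟩
  have hc := U.2.center_nontrivial
  obtain ⟨z, hz1⟩ := exists_ne (1 : Subgroup.center U)
  have hz2 : ∀ u ∈ U, ((z : U) : ↥(E Q)) * u = u * ((z : U) : ↥(E Q)) := by
    intro u hu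
    have := Subgroup.mem_center_iff.1 z.2 ⟨u, hu⟩
    exact (congrArg Subtype.val this).symm
  have hzX := hle _ (z : U).2 hz2
  obtain ⟨c, hc⟩ := (mem_XG h.ts).1 hzX
  have hc0 : c ≠ 0 := by
    rintro rfl
    apply hz1
    apply Subtype.ext
    apply Subtype.ext
    apply Subtype.ext
    apply LinearEquiv.ext
    intro v
    rw [hc v]
    simp only [_root_.MulZeroClass.zero_mul, _root_.zero_smul, _root_.add_zero, _root_.sub_zero, _root_.OneMemClass.coe_one, _root_.LinearEquiv.coe_one, _root_.id_eq]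
  obtain ⟨d, hd'⟩ := (mem_XG h.ts).1 hg
  intro u hu
  have h1 : u * ((z : U) : ↥(E Q)) * u⁻¹ = ((z : U) : ↥(E Q)) := by
    rw [← hz2 u hu, mul_inv_cancel_right]
  have h2 : u * g * u⁻¹ = g := by
    apply Subtype.ext
    apply LinearEquiv.ext
    intro v
    have h3 := conj_apply (g := u) hc v
    rw [h1, hc v] at h3
    rw [conj_apply (g := u) hd' v, hd' v]
    have h4 : (c * polar Q x v) • y - (c * polar Q y v) • x =
        (c * polar Q ((u : V ≃ₗ[F] V) x) v) • (u : V ≃ₗ[F] V) y - (c * polar Q ((u : V ≃ₗ[F] V) y) v) • (u : V ≃ₗ[F] V) x := by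
      rw [add_sub_assoc, add_sub_assoc] at h3
      exact add_left_cancel h3
    have h5 := congrArg (fun t => (d * c⁻¹) • t) h4
    simp only [smul_sub, smul_smul] at h5
    have h6 : ∀ t : F, d * c⁻¹ * (c * t) = d * t := fun t => by field_simp
    simp only [h6] at h5
    rw [add_sub_assoc, add_sub_assoc, h5]
  have h7 := congrArg (fun t => t * u) h2
  simp only [inv_mul_cancel_right] at h7
  exact h7.symm

end Cfsg.Agent.H353.TwoOrth
end

-- part: H353/TwoOrthCount
section
/-!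
# HUB H1, orthogonal groups: the number of long root elements (helper353)

* `card_zeros` : zeros of `Q` on `V` and on the complement of a hyperbolic pair;
* `card_root` : `|C| (q ^ 2 - 1) = (z(V) - 1) (z(W) - 1)`, `C` the set of the long root elements.
-/

set_option autoImplicit false
set_option linter.unusedSectionVars false
set_option linter.unusedVariables false
set_option linter.unusedSimpArgs false

namespace Cfsg.Agent.H353.TwoOrth

open QuadraticMap Cfsg.Agent.LieClassical.OrthCore Cfsg.Agent.LieClassical.OrthTrans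
open Cfsg.Agent.LieClassical.OrthFinite Cfsg.Agent.H955 Cfsg.Agent.GenOrth

variable {F V : Type*} [Field F] [AddCommGroup V] [Module F V] {Q : QuadraticForm F V} {x y : V}

/-- the number of zeros -/
noncomputable def nz {V : Type*} [AddCommGroup V] [Module F V] (Q : QuadraticForm F V) : ℕ := Nat.card {v : V // Q v = 0}

/-- zeros of `(w, a, b) ↦ R w + a b` -/
def zeroEquiv {W : Type*} (R : W → F) [DecidableEq F] :
    {p : W × F × F // R p.1 + p.2.1 * p.2.2 = 0} ≃ (W × {a : F // a ≠ 0}) ⊕ ({w : W // R w = 0} × F) where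
  toFun p := if h : p.1.2.1 = 0 then Sum.inr (⟨p.1.1, by have := p.2; rw [h, zero_mul, add_zero] at this; exact this⟩,
      p.1.2.2) else Sum.inl (p.1.1, ⟨p.1.2.1, h⟩)
  invFun s := match s with
    | Sum.inl (w, a) => ⟨(w, a.1, -(R w) * a.1⁻¹), by
        have := a.2
        show R w + a.1 * (-(R w) * a.1⁻¹) = 0
        field_simp
        ring⟩
    | Sum.inr (w, b) => ⟨(w.1, 0, b), by
        show R w.1 + 0 * b = 0
        rw [w.2]; ring⟩
  left_inv p := by
    obtain ⟨⟨w, a, b⟩, h⟩ := p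
    by_cases ha : a = 0
    · subst ha
      simp
    · simp only [ha, dite_false]
      apply Subtype.ext
      simp only [Prod.mk.injEq, true_and]
      have h' : R w + a * b = 0 := h
      have : R w = -(a * b) := by linear_combination h'
      rw [this]
      field_simp
  right_inv s := by
    rcases s with ⟨w, a⟩ | ⟨w, b⟩
    · simp [a.2]
    · simp

theorem card_ne_zero [Finite F] : Nat.card {a : F // a ≠ 0} = Nat.card F - 1 := by
  classical
  have := Fintype.ofFinite F
  rw [Nat.card_eq_fintype_card, Nat.card_eq_fintype_card, Fintype.card_subtype_compl]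
  simp

theorem card_zeros [Finite F] [FiniteDimensional F V] {x' : V} (h : Hyp Q x x') :
    nz Q = Nat.card F ^ (Module.finrank F V - 2) * (Nat.card F - 1) + nz (res Q (hperp Q x x')) * Nat.card F := by
  classical
  have hfV : Finite V := Module.finite_of_finite F
  have h1 : nz Q = Nat.card {p : hperp Q x x' × F × F // res Q (hperp Q x x') p.1 + p.2.1 * p.2.2 = 0} := by
    refine (Nat.card_congr ((hypEquiv h).toEquiv.subtypeEquiv fun p => ?_)).symm
    rw [LinearEquiv.coe_toEquiv, Q_hypEquiv]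
    rfl
  rw [h1, Nat.card_congr (zeroEquiv (fun w : hperp Q x x' => res Q (hperp Q x x') w)), Nat.card_sum, Nat.card_prod,
    Nat.card_prod, card_ne_zero]
  congr 2
  rw [Module.natCard_eq_pow_finrank (K := F)]
  congr 1
  have := finrank_hperp h
  omega

/-- the second vectors of the totally singular pairs starting with `x` -/
def secondEquiv {x' : V} (h : Hyp Q x x') :
    {y : V // TS Q x y} ≃ F × {w : hperp Q x x' // w ≠ 0 ∧ res Q (hperp Q x x') w = 0} where
  toFun y := (polar Q x' y.1, ⟨prj h y.1, by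
      constructor
      · intro h0
        have h1 := congrArg Subtype.val h0
        rw [prj_coe, y.2.pol, zero_smul, sub_zero] at h1
        exact y.2.not_smul _ (sub_eq_zero.1 h1)
      · rw [res_apply, prj_coe, y.2.pol, zero_smul, sub_zero, sub_eq_add_neg, ← neg_smul, Q_add,
          QuadraticMap.map_smul, y.2.right, y.2.left, polar_smul_right, y.2.pol']
        simp⟩)
  invFun p := ⟨(p.2.1 : V) + p.1 • x, by
      have hw := p.2.1.2
      have hw1 : polar Q x (p.2.1 : V) = 0 := hw.1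
      have hw2 : polar Q x' (p.2.1 : V) = 0 := hw.2
      refine ⟨h.left, ?_, ?_, ?_⟩
      · rw [Q_add, QuadraticMap.map_smul, h.left, polar_smul_right, polar_comm Q _ x, hw1]
        have := p.2.2.2
        rw [res_apply] at this
        rw [this]; simp
      · rw [polar_add_right, polar_smul_right, hw1, h.polar_left]; simp
      · intro a b hab
        have h1 := congrArg (polar Q x') hab
        simp only [polar_add_right, polar_smul_right, h.pair', hw2, polar_zero_right, smul_eq_mul, mul_one,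
          mul_zero, zero_add] at h1
        have h2 : b • (p.2.1 : V) = 0 := by
          rw [← hab]
          have : (a + b * p.1) • x = 0 := by rw [h1, zero_smul]
          have h3 : a • x + b • ((p.2.1 : V) + p.1 • x) = b • (p.2.1 : V) + (a + b * p.1) • x := by module
          rw [h3, this, add_zero]
        have h3 : b = 0 := by
          refine (smul_eq_zero.1 h2).resolve_right fun h4 => p.2.2.1 (Subtype.ext h4)
        rw [h3, zero_mul, add_zero] at h1
        exact ⟨h1, h3⟩⟩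
  left_inv y := by
    apply Subtype.ext
    show (prj h y.1 : V) + polar Q x' y.1 • x = y.1
    rw [prj_coe, y.2.pol]
    module
  right_inv p := by
    have hw := p.2.1.2
    have hw1 : polar Q x (p.2.1 : V) = 0 := hw.1
    have hw2 : polar Q x' (p.2.1 : V) = 0 := hw.2
    have e1 : polar Q x' ((p.2.1 : V) + p.1 • x) = p.1 := by
      rw [polar_add_right, polar_smul_right, hw2, h.pair']; simp
    refine Prod.ext e1 (Subtype.ext (Subtype.ext ?_))
    show (prj h ((p.2.1 : V) + p.1 • x) : V) = p.2.1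
    rw [prj_coe, e1, polar_add_right, polar_smul_right, hw1, h.polar_left]
    module

theorem card_sub_one {W : Type*} [AddCommGroup W] [Module F W] [Finite W] (R : QuadraticForm F W) :
    Nat.card {w : W // w ≠ 0 ∧ R w = 0} = nz R - 1 := by
  classical
  have := Fintype.ofFinite W
  have h1 : nz R = Nat.card {w : W // w ≠ 0 ∧ R w = 0} + 1 := by
    unfold nz
    rw [Nat.card_eq_fintype_card, Nat.card_eq_fintype_card, Fintype.card_subtype, Fintype.card_subtype]
    have h2 : (Finset.univ.filter fun w : W => R w = 0) =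
        insert 0 (Finset.univ.filter fun w : W => w ≠ 0 ∧ R w = 0) := by
      ext w
      simp only [Finset.mem_filter, Finset.mem_univ, true_and, Finset.mem_insert]
      by_cases hw : w = 0
      · simp [hw]
      · simp [hw]
    rw [h2, Finset.card_insert_of_notMem]
    simp only [_root_.ne_eq, _root_.Finset.mem_filter, _root_.Finset.mem_univ, _root_.not_true_eq_false, _root_.map_zero, _root_.and_true, _root_.and_false, _root_.not_false_eq_true]
  omega

/-- the number of zeros on the complement does not depend on the pair -/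
theorem card_second [Finite F] [FiniteDimensional F V] {x' : V} (h : Hyp Q x x') :
    Nat.card {y : V // TS Q x y} = Nat.card F * (nz (res Q (hperp Q x x')) - 1) := by
  have hfV : Finite V := Module.finite_of_finite F
  rw [Nat.card_congr (secondEquiv h), Nat.card_prod, card_sub_one]

/-- the number of totally singular pairs, multiplied by `q` -/
theorem card_pairs [Finite F] [FiniteDimensional F V] (hQ : Nondeg Q) {x' : V} (h : Hyp Q x x') :
    Nat.card {p : V × V // TS Q p.1 p.2} = (nz Q - 1) * (Nat.card F * (nz (res Q (hperp Q x x')) - 1)) := by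
  classical
  have hfV : Finite V := Module.finite_of_finite F
  have := Fintype.ofFinite V
  have e : {p : V × V // TS Q p.1 p.2} ≃ Σ u : {u : V // u ≠ 0 ∧ Q u = 0}, {y : V // TS Q u.1 y} :=
    { toFun := fun p => ⟨⟨p.1.1, p.2.left_ne, p.2.left⟩, ⟨p.1.2, p.2⟩⟩
      invFun := fun s => ⟨(s.1.1, s.2.1), s.2.2⟩
      left_inv := fun p => rfl
      right_inv := fun s => rfl }
  rw [Nat.card_congr e, Nat.card_sigma]
  have h1 : ∀ u : {u : V // u ≠ 0 ∧ Q u = 0}, Nat.card {y : V // TS Q u.1 y} =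
      Nat.card F * (nz (res Q (hperp Q x x')) - 1) := by
    rintro ⟨u, hu0, hu⟩
    obtain ⟨u', hu'⟩ := exists_hyp hQ hu hu0
    rw [card_second hu']
    have h2 := card_zeros hu'
    rw [card_zeros h] at h2
    have h3 : nz (res Q (hperp Q x x')) * Nat.card F = nz (res Q (hperp Q u u')) * Nat.card F := by omega
    rw [Nat.eq_of_mul_eq_mul_right Nat.card_pos h3]
  rw [Finset.sum_congr rfl (fun u _ => h1 u), Finset.sum_const, Finset.card_univ, smul_eq_mul,
    ← Nat.card_eq_fintype_card, card_sub_one]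

/-- the long root elements -/
def RE (Q : QuadraticForm F V) : Set ↥(E Q) := {k | ∃ x y, TS Q x y ∧ ∀ v, (k : V ≃ₗ[F] V) v = Rf Q x y v}

/-- the root element of a pair -/
noncomputable def toRE (p : {p : V × V // TS Q p.1 p.2}) : RE Q :=
  ⟨xh p.2 (Multiplicative.ofAdd 1), p.1.1, p.1.2, p.2, fun v => by rw [xh_apply', one_smul]⟩

theorem toRE_apply (p : {p : V × V // TS Q p.1 p.2}) (v : V) :
    ((toRE p : ↥(E Q)) : V ≃ₗ[F] V) v = Rf Q p.1.1 p.1.2 v := by
  show (xh p.2 (Multiplicative.ofAdd 1) : V ≃ₗ[F] V) v = _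
  rw [xh_apply', one_smul]

/-- the fibres -/
theorem card_fiber [Finite F] (hQ : Nondeg Q) (k : RE Q) :
    Nat.card {p : {p : V × V // TS Q p.1 p.2} // toRE p = k} = Nat.card (Matrix.SpecialLinearGroup (Fin 2) F) := by
  obtain ⟨k, x, y, h, hk⟩ := k
  have hcond : ∀ p : {p : V × V // TS Q p.1 p.2}, toRE p = ⟨k, x, y, h, hk⟩ ↔ ∀ v, Rf Q p.1.1 p.1.2 v = Rf Q x y v := by
    intro p
    constructor
    · intro hp v
      rw [← toRE_apply, hp, ← hk]
    · intro hp
      apply Subtype.ext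
      apply Subtype.ext
      apply LinearEquiv.ext
      intro v
      rw [toRE_apply, hp, ← hk]
  symm
  refine Nat.card_congr (Equiv.ofBijective (fun M => ⟨⟨(M.1 0 0 • x + M.1 0 1 • y, M.1 1 0 • x + M.1 1 1 • y),
    h.comb (by
      have := M.2
      rw [Matrix.det_fin_two] at this
      rw [this]; exact one_ne_zero)⟩, (hcond _).2 fun v => by
      have hd := M.2
      rw [Matrix.det_fin_two] at hd
      show Rf Q (M.1 0 0 • x + M.1 0 1 • y) (M.1 1 0 • x + M.1 1 1 • y) v = _
      rw [Rf_comb, hd, one_smul, Rf, add_sub_assoc]⟩) ⟨?_, ?_⟩)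
  · intro M N hMN
    have h1 := congrArg (fun p => (p.1.1 : V × V)) hMN
    simp only [Prod.mk.injEq] at h1
    have h2 : (M.1 0 0 - N.1 0 0) • x + (M.1 0 1 - N.1 0 1) • y = 0 := by
      have := sub_eq_zero.2 h1.1
      rw [← this]; module
    have h3 : (M.1 1 0 - N.1 1 0) • x + (M.1 1 1 - N.1 1 1) • y = 0 := by
      have := sub_eq_zero.2 h1.2
      rw [← this]; module
    obtain ⟨h4, h5⟩ := h.ind _ _ h2
    obtain ⟨h6, h7⟩ := h.ind _ _ h3
    apply Subtype.ext
    ext i j
    fin_cases i <;> fin_cases j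
    · exact sub_eq_zero.1 h4
    · exact sub_eq_zero.1 h5
    · exact sub_eq_zero.1 h6
    · exact sub_eq_zero.1 h7
  · rintro ⟨⟨⟨u, w⟩, hp⟩, hpk⟩
    have h1 := (hcond _).1 hpk
    obtain ⟨a, b, c, d, e1, e2, e3⟩ := Rf_inj hQ h hp (fun v => (h1 v).symm)
    refine ⟨⟨!![a, b; c, d], by rw [Matrix.det_fin_two_of]; exact e3⟩, ?_⟩
    apply Subtype.ext
    apply Subtype.ext
    exact (Prod.ext e1 e2).symm

/-- **the number of long root elements** -/
theorem card_root [Finite F] [FiniteDimensional F V] (hQ : Nondeg Q) {x' : V} (h : Hyp Q x x') :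
    (RE Q).ncard * (Nat.card F ^ 2 - 1) = (nz Q - 1) * (nz (res Q (hperp Q x x')) - 1) := by
  classical
  have hfV : Finite V := Module.finite_of_finite F
  have := Fintype.ofFinite F
  have hfE : Finite (V ≃ₗ[F] V) := Finite.of_injective (fun g : V ≃ₗ[F] V => (g : V → V)) DFunLike.coe_injective
  have hfR : Fintype (RE Q) := Fintype.ofFinite _
  have h1 := card_pairs hQ h
  rw [← Nat.card_congr (Equiv.sigmaFiberEquiv (toRE (Q := Q))), Nat.card_sigma,
    Finset.sum_congr rfl (fun k _ => card_fiber hQ k), Finset.sum_const, Finset.card_univ, smul_eq_mul,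
    Cfsg.Agent.LieClassical.SmallIso.card_sl_two] at h1
  have h2 : (RE Q).ncard = Fintype.card (RE Q) := by
    rw [← Nat.card_coe_set_eq, Nat.card_eq_fintype_card]
  rw [h2, Nat.card_eq_fintype_card]
  rw [Nat.card_eq_fintype_card] at h1
  have h3 : 0 < Fintype.card F := Fintype.card_pos
  apply Nat.eq_of_mul_eq_mul_left h3
  calc Fintype.card F * (Fintype.card (RE Q) * (Fintype.card F ^ 2 - 1))
      = Fintype.card (RE Q) * (Fintype.card F * (Fintype.card F ^ 2 - 1)) := by ring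
    _ = (nz Q - 1) * (Fintype.card F * (nz (res Q (hperp Q x x')) - 1)) := h1
    _ = _ := by ring

end Cfsg.Agent.H353.TwoOrth
end

private theorem dce_3b36cb1981ce : _root_.True := by
  try have : _root_.True := by simp only [_root_.Cfsg.Agent.H353.TwoOrth.pW.eq_1]
  try have : _root_.True := by simp only [_root_.Cfsg.Agent.H353.TwoOrth.c1.congr_simp]
  try have : _root_.True := by simp only [_root_.Cfsg.Agent.H353.TwoOrth.c2.congr_simp]
  exact _root_.True.intro
end
end
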